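import Mathlib
import Cfsg.Agent.Classical.SmallSimple
import Cfsg.Agent.Fg24.InvolD8.Small

/-!
Subgroups of index six in a simple group of order 360 through a given element of order 3.
-/

set_option autoImplicit false

namespace Cfsg.Agent.SymSixRecog

open Subgroup
open scoped Pointwise

theorem not_factorial_dvd : ∀ k : ℕ, k ≤ 5 → ¬ 360 ∣ k.factorial := by decide

/-- a simple group of order 360 has no proper subgroup of index at most five -/
theorem six_le_index {N : Type*} [Group N] [Finite N] [IsSimpleGroup N] (hN : Nat.card N = 360)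
    (K : Subgroup N) (hK : K ≠ ⊤) : 6 ≤ K.index := by
  classical
  by_contra hlt
  have hcore : K.normalCore = ⊥ := (IsSimpleGroup.eq_bot_or_eq_top_of_normal _ K.normalCore_normal).resolve_right
    fun h => hK (top_le_iff.1 (h ▸ K.normalCore_le))
  let f : N →* Equiv.Perm (N ⧸ K) := MulAction.toPermHom N (N ⧸ K)
  have hf : Function.Injective f := (MonoidHom.ker_eq_bot_iff _).1 (by rw [← K.normalCore_eq_ker, hcore])
  have h := Subgroup.card_dvd_of_injective f hf
  rw [Nat.card_perm, hN, ← K.index_eq_card] at h
  exact not_factorial_dvd _ (by omega) h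

theorem normalizer_eq_self {N : Type*} [Group N] [Finite N] [IsSimpleGroup N] (hN : Nat.card N = 360)
    (K : Subgroup N) (hK : K.index = 6) : normalizer (K : Set N) = K := by
  refine le_antisymm ?_ le_normalizer
  have hne : normalizer (K : Set N) ≠ ⊤ := fun h => by
    have := normalizer_eq_top_iff.1 h
    rcases IsSimpleGroup.eq_bot_or_eq_top_of_normal K this with h' | h'
    · rw [h', index_bot, hN] at hK; omega
    · rw [h', index_top] at hK; omega
  have h1 := relIndex_mul_index (le_normalizer (H := K))
  have h2 := six_le_index hN _ hne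
  rw [hK] at h1
  have h3 : K.relIndex (normalizer (K : Set N)) = 1 := by
    rcases Nat.eq_zero_or_pos (K.relIndex (normalizer (K : Set N))) with h | h
    · rw [h] at h1; omega
    · nlinarith
  exact relIndex_eq_one.1 h3

/-- any two subgroups of index six through the same element of order 3 are conjugate -/
theorem conj_of_index_six {N : Type*} [Group N] [Finite N] [IsSimpleGroup N] (hN : Nat.card N = 360)
    (H H' : Subgroup N) (hH : H.index = 6) (hH' : H'.index = 6) {y : N} (hy : orderOf y = 3)
    (hyH : y ∈ H) (hyH' : y ∈ H') : ∃ g : N, H' = MulAut.conj g • H := by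
  classical
  have : Fact (Nat.Prime 5) := ⟨by norm_num⟩
  have hc' : Nat.card H' = 60 := by
    have := H'.card_mul_index
    rw [hH', hN] at this
    omega
  have hcard : Nat.card (N ⧸ H) = 6 := by rw [← H.index_eq_card, hH]
  obtain ⟨e, he⟩ := exists_prime_orderOf_dvd_card' (G := H') 5 (by rw [hc']; norm_num)
  let f : N →* Equiv.Perm (N ⧸ H) := MulAction.toPermHom N (N ⧸ H)
  have hf : Function.Injective f := by
    refine (MonoidHom.ker_eq_bot_iff _).1 ?_
    rw [← H.normalCore_eq_ker]
    refine (IsSimpleGroup.eq_bot_or_eq_top_of_normal _ H.normalCore_normal).resolve_right fun h => ?_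
    have hT : H = ⊤ := top_le_iff.1 (h ▸ H.normalCore_le)
    rw [hT, index_top] at hH
    omega
  obtain ⟨x, hx⟩ : ∃ x : N ⧸ H, (e : N) • x ≠ x := by
    by_contra hall
    push Not at hall
    have h1 : f e = 1 := Equiv.ext hall
    have h2 : (e : N) = 1 := hf (h1.trans (map_one f).symm)
    rw [show e = 1 from Subtype.ext h2, orderOf_one] at he
    omega
  have h5 : Nat.card (MulAction.orbit (zpowers e) x) = 5 := by
    have hd := MulAction.index_stabilizer (zpowers e) x
    have hdvd : (MulAction.stabilizer (zpowers e) x).index ∣ 5 := by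
      have := index_dvd_card (MulAction.stabilizer (zpowers e) x)
      rwa [Nat.card_zpowers, he] at this
    rcases (Nat.dvd_prime (by norm_num)).1 hdvd with h | h
    · exfalso
      have htop := index_eq_one.1 h
      have hm : (⟨e, mem_zpowers e⟩ : zpowers e) ∈ MulAction.stabilizer (zpowers e) x := by rw [htop]; exact mem_top _
      exact hx hm
    · rw [Nat.card_coe_set_eq, ← hd, h]
  have hsub : MulAction.orbit (zpowers e) x ⊆ MulAction.orbit H' x := by
    rintro _ ⟨⟨a, ha⟩, rfl⟩
    exact ⟨a, rfl⟩
  have h5' : 5 ≤ (MulAction.orbit H' x).ncard := by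
    rw [← h5, Nat.card_coe_set_eq]
    exact Set.ncard_le_ncard hsub
  have hle6 : (MulAction.orbit H' x).ncard ≤ 6 := by
    rw [← hcard, ← Set.ncard_univ]
    exact Set.ncard_le_ncard (Set.subset_univ _)
  by_cases h6 : (MulAction.orbit H' x).ncard = 6
  · exfalso
    have huniv : MulAction.orbit H' x = Set.univ :=
      Set.eq_of_subset_of_ncard_le (Set.subset_univ _) (by rw [Set.ncard_univ, hcard, h6])
    let o : N ⧸ H := ((1 : N) : N ⧸ H)
    have ho : MulAction.orbit H' o = Set.univ := by
      rw [← huniv]
      exact MulAction.orbit_eq_iff.2 (huniv ▸ Set.mem_univ o)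
    have hst := MulAction.index_stabilizer H' o
    rw [ho, Set.ncard_univ, hcard] at hst
    have hcs := (MulAction.stabilizer H' o).card_mul_index
    rw [hst, hc'] at hcs
    have hmem : (⟨y, hyH'⟩ : H') ∈ MulAction.stabilizer H' o := by
      show ((y * 1 : N) : N ⧸ H) = ((1 : N) : N ⧸ H)
      rw [QuotientGroup.eq, mul_one, mul_one, inv_mem_iff]
      exact hyH
    have := orderOf_dvd_natCard (⟨_, hmem⟩ : MulAction.stabilizer H' o)
    rw [Subgroup.orderOf_mk, Subgroup.orderOf_mk, hy, show Nat.card (MulAction.stabilizer H' o) = 10 by omega] at this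
    norm_num at this
  · have hc1 : ((MulAction.orbit H' x)ᶜ).ncard = 1 := by
      rw [Set.ncard_compl, hcard]; omega
    obtain ⟨c, hc⟩ := Set.ncard_eq_one.1 hc1
    have hfix : ∀ h : H', (h : N) • c = c := by
      intro h
      have hmem : (h : N) • c ∈ (MulAction.orbit H' x)ᶜ := by
        intro hin
        have hcin : c ∈ (MulAction.orbit H' x)ᶜ := by rw [hc]; rfl
        apply hcin
        obtain ⟨a, ha⟩ := hin
        refine ⟨h⁻¹ * a, ?_⟩
        change (h⁻¹ * a) • x = c
        rw [mul_smul, show a • x = (h : N) • c from ha]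
        exact inv_smul_smul (h : N) c
      rw [hc] at hmem
      exact hmem
    obtain ⟨g, rfl⟩ := QuotientGroup.mk_surjective c
    refine ⟨g, eq_of_le_of_card_ge (fun h hh => ?_) ?_⟩
    · have := hfix ⟨h, hh⟩
      change ((h * g : N) : N ⧸ H) = g at this
      rw [eq_comm, QuotientGroup.eq] at this
      rw [Subgroup.mem_pointwise_smul_iff_inv_smul_mem]
      simpa [MulAut.smul_def, mul_assoc] using this
    · show Nat.card (H.map (MulAut.conj g).toMonoidHom) ≤ _
      rw [Subgroup.card_map_of_injective (MulEquiv.injective _), hc']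
      have := H.card_mul_index
      rw [hH, hN] at this
      omega

/-- every element of order 3 of the alternating group of degree six lies in a subgroup of index six -/
theorem exists_index_six (y : alternatingGroup (Fin 6)) (hy : orderOf y = 3) :
    ∃ H : Subgroup (alternatingGroup (Fin 6)), H.index = 6 ∧ y ∈ H := by
  classical
  by_cases hfix : ∃ i, (y : Equiv.Perm (Fin 6)) i = i
  · obtain ⟨i, hi⟩ := hfix
    refine ⟨MulAction.stabilizer (alternatingGroup (Fin 6)) i, ?_, hi⟩
    have hpre : MulAction.IsPretransitive (alternatingGroup (Fin 6)) (Fin 6) :=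
      alternatingGroup.isPretransitive_of_three_le_card (Fin 6) (by simp)
    rw [MulAction.index_stabilizer_of_transitive, Nat.card_fin]
  · push Not at hfix
    -- a transitive subgroup of order 60
    have h5 : Fact (Nat.Prime 5) := ⟨by norm_num⟩
    let A := alternatingGroup (Fin 5)
    have hA : Nat.card A = 60 := by rw [nat_card_alternatingGroup, Nat.card_fin]; rfl
    have : IsSimpleGroup A := alternatingGroup.isSimpleGroup (by simp)
    let Q : Sylow 5 A := default
    obtain ⟨hQ, hQi⟩ := Classical.Small.sylow_card_eq Q (m := 12) (by rw [hA]) (by norm_num)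
    have hdvd : Nat.card (Sylow 5 A) ∣ 12 := hQi ▸ Q.card_dvd_index
    have hmod : Nat.card (Sylow 5 A) % 5 = 1 := card_sylow_modEq_one 5 A
    have hne1 := Classical.Small.sylow_card_ne_one Q (by rw [hA]; norm_num) (by rw [hQ, hA]; norm_num)
    have h6 : Nat.card (Sylow 5 A) = 6 := by
      have := Nat.le_of_dvd (by norm_num) hdvd
      interval_cases (Nat.card (Sylow 5 A)) <;> simp_all
    let eq6 : Sylow 5 A ≃ Fin 6 := Finite.equivFinOfCardEq h6
    let f : A →* Equiv.Perm (Fin 6) := eq6.permCongrHom.toMonoidHom.comp (MulAction.toPermHom A (Sylow 5 A))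
    have hne : f ≠ 1 := fun h1 => by
      have hn : Nontrivial (Sylow 5 A) := Finite.one_lt_card_iff_nontrivial.1 (by omega)
      obtain ⟨a, b, hab⟩ := exists_pair_ne (Sylow 5 A)
      obtain ⟨g, hg⟩ := MulAction.exists_smul_eq A a b
      have h2 : MulAction.toPermHom A (Sylow 5 A) g = 1 := eq6.permCongrHom.injective (by
        rw [map_one]; exact congrArg (fun φ : A →* Equiv.Perm (Fin 6) => φ g) h1)
      exact hab (by rw [← hg]; exact (DFunLike.congr_fun h2 a).symm)
    obtain ⟨hinj, hle⟩ := Classical.Small.perm_rep (Classical.Small.alt_noncomm le_rfl) f hne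
    let f' : A →* alternatingGroup (Fin 6) := f.codRestrict _ (fun g => hle ⟨g, rfl⟩)
    have hf' : Function.Injective f' := fun a b h => hinj (congrArg Subtype.val h)
    have : Fact (Nat.Prime 3) := ⟨Nat.prime_three⟩
    obtain ⟨w, hw⟩ := exists_prime_orderOf_dvd_card' (G := A) 3 (by rw [hA]; norm_num)
    -- `f w` has no fixed point
    have hfw : ∀ i, f w i ≠ i := by
      intro i hi
      have h1 : w • eq6.symm i = eq6.symm i := eq6.injective (by rw [eq6.apply_symm_apply]; exact hi)
      have h2 := MulAction.index_stabilizer_of_transitive A (eq6.symm i)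
      rw [h6] at h2
      have h3 := (MulAction.stabilizer A (eq6.symm i)).card_mul_index
      rw [h2, hA] at h3
      have := orderOf_dvd_natCard (⟨w, h1⟩ : MulAction.stabilizer A (eq6.symm i))
      rw [show orderOf (⟨w, h1⟩ : MulAction.stabilizer A (eq6.symm i)) = 3 by
          rw [← hw]; exact (Subgroup.orderOf_coe (⟨w, h1⟩ : MulAction.stabilizer A (eq6.symm i))).symm, show Nat.card (MulAction.stabilizer A (eq6.symm i)) = 10 by omega] at this
      norm_num at this
    have hct : ∀ σ : Equiv.Perm (Fin 6), orderOf σ = 3 → (∀ i, σ i ≠ i) →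
        σ.cycleType = Multiset.replicate 2 3 := by
      intro σ h1 h2
      obtain ⟨n, hn⟩ := Equiv.Perm.cycleType_prime_order (h1.symm ▸ Nat.prime_three)
      rw [h1] at hn
      have hs := Equiv.Perm.sum_cycleType σ
      have hsup : σ.support = Finset.univ := Finset.eq_univ_of_forall fun i => Equiv.Perm.mem_support.2 (h2 i)
      rw [hn, Multiset.sum_replicate, smul_eq_mul, hsup, Finset.card_univ, Fintype.card_fin] at hs
      rw [hn, show n + 1 = 2 by omega]
    have ho : orderOf (f w) = 3 := by rw [orderOf_injective f hinj, hw]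
    obtain ⟨σ, hσ⟩ := isConj_iff.1 (Equiv.Perm.isConj_iff_cycleType_eq.2 ((hct _ ho hfw).trans
      (hct (y : Equiv.Perm (Fin 6)) (by rw [Subgroup.orderOf_coe, hy]) hfix).symm))
    let φ : alternatingGroup (Fin 6) ≃* alternatingGroup (Fin 6) := MulAut.conjNormal σ
    refine ⟨(φ.toMonoidHom.comp f').range, ?_, ⟨w, Subtype.ext ?_⟩⟩
    · have hc : Nat.card (φ.toMonoidHom.comp f').range = 60 := by
        rw [← hA]
        exact Nat.card_congr (MonoidHom.ofInjective (f := φ.toMonoidHom.comp f')
          (φ.injective.comp hf')).symm.toEquiv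
      have h := (φ.toMonoidHom.comp f').range.card_mul_index
      rw [hc, nat_card_alternatingGroup, Nat.card_fin, show (6 : ℕ).factorial / 2 = 360 from rfl] at h
      omega
    · show ((MulAut.conjNormal σ (f' w) : alternatingGroup (Fin 6)) : Equiv.Perm (Fin 6)) = _
      rw [MulAut.conjNormal_apply]
      exact hσ

end Cfsg.Agent.SymSixRecog
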