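import Cfsg.Agent.SymSixRecog.Ext
import Cfsg.Agent.PermGroups.SymmetricGroup
import Cfsg.Agent.Classical.SmallPSL

/-!
The cases `S₅`, `L₃(2)` and `A₆` for the subgroup of index 2.
-/

set_option autoImplicit false

namespace Cfsg.Agent.SymSixRecog

open Subgroup
open scoped Pointwise commutatorElement

variable {G : Type*} [Group G] [Finite G] {t z : G} {T : Sylow 2 G}

theorem split_index_two {M : Subgroup G} (hM2 : M.index = 2) {t : G} (htM : t ∉ M) (g : G) :
    g ∈ M ∨ ∃ m ∈ M, g = m * t := by
  by_cases hg : g ∈ M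
  · exact Or.inl hg
  · refine Or.inr ⟨g * t⁻¹, ?_, by group⟩
    rw [mul_mem_iff_of_index_two hM2]
    simp [hg, htM]

theorem not_aut_inner {M : Subgroup G} [M.Normal] {α : Type*} [Fintype α] [DecidableEq α]
    (h6 : Fintype.card α ≠ 6) (φ : M ≃* Equiv.Perm α) (hc : centralizer (M : Set G) = ⊥) {t : G} (htM : t ∉ M) :
    False := by
  let c : M ≃* M := MulAut.conjNormal t
  obtain ⟨σ, hσ⟩ := PermGroups.Sym.exists_conj h6 ((φ.symm.trans c).trans φ)
  apply htM
  have key : (φ.symm σ : G)⁻¹ * t ∈ centralizer (M : Set G) := by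
    rw [mem_centralizer_iff]
    intro m hm
    have h1 := hσ (φ ⟨m, hm⟩)
    simp only [MulEquiv.trans_apply, MulEquiv.symm_apply_apply] at h1
    have h2 : c ⟨m, hm⟩ = φ.symm σ * ⟨m, hm⟩ * (φ.symm σ)⁻¹ := φ.injective (by
      rw [map_mul, map_mul, map_inv, MulEquiv.apply_symm_apply, h1])
    have h3 : t * m * t⁻¹ = (φ.symm σ : G) * m * (φ.symm σ : G)⁻¹ := by
      have := congrArg Subtype.val h2
      simpa [c] using this
    calc m * ((φ.symm σ : G)⁻¹ * t) = (φ.symm σ : G)⁻¹ * ((φ.symm σ : G) * m * (φ.symm σ : G)⁻¹) * t := by group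
      _ = (φ.symm σ : G)⁻¹ * (t * m * t⁻¹) * t := by rw [h3]
      _ = (φ.symm σ : G)⁻¹ * t * m := by group
  rw [hc, mem_bot] at key
  rw [← inv_mul_eq_one.1 key]
  exact (φ.symm σ).2

namespace Data

/-- the simple group of order 168 does not occur -/
theorem no_168 (D : Data t z T) (M : Subgroup G) [hMn : M.Normal] (hM2 : M.index = 2) (htM : t ∉ M)
    [hs : IsSimpleGroup M] (hM : Nat.card M = 168) (hc : centralizer (M : Set G) = ⊥) : False := by
  classical
  have : Fact (Nat.Prime 7) := ⟨by norm_num⟩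
  have hG : Nat.card G = 336 := by rw [← M.card_mul_index, hM, hM2]
  let P₀ : Sylow 7 G := default
  have hP7 : ∀ P : Sylow 7 G, Nat.card (P : Subgroup G) = 7 := fun P => by
    rw [P.card_eq_multiplicity, hG, show (336 : ℕ) = 7 ^ 1 * 48 by norm_num,
      Nat.factorization_mul (by norm_num) (by norm_num), Finsupp.add_apply,
      (by norm_num : Nat.Prime 7).factorization_pow, Finsupp.single_eq_same,
      Nat.factorization_eq_zero_of_not_dvd (by norm_num : ¬ 7 ∣ 48)]
    norm_num
  have hPM : ∀ P : Sylow 7 G, (P : Subgroup G) ≤ M := fun P => by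
    intro p hp
    have h7 : p ^ 7 = 1 := by
      have := pow_card_eq_one' (x := (⟨p, hp⟩ : (P : Subgroup G)))
      rw [hP7 P] at this
      exact congrArg Subtype.val this
    by_contra hn
    have h2 : p * p ∈ M := mul_self_mem_of_index_two hM2 p
    have hmem : p * ((p * p) * (p * p) * (p * p)) ∈ M := by
      rw [show p * ((p * p) * (p * p) * (p * p)) = p ^ 7 by simp [pow_succ, mul_assoc], h7]
      exact one_mem M
    exact hn ((Subgroup.mul_mem_cancel_right M (mul_mem (mul_mem h2 h2) h2)).1 hmem)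
  have hidx : ∀ P : Sylow 7 G, (normalizer ((P : Subgroup G) : Set G)).index = 8 := by
    intro P
    show (normalizer (P : Set G)).index = 8
    rw [← P.card_eq_index_normalizer]
    have hdvd := P.card_dvd_index
    have hPi : (P : Subgroup G).index = 48 := by
      have := (P : Subgroup G).card_mul_index
      rw [hP7 P, hG] at this
      omega
    rw [hPi] at hdvd
    have hmod : Nat.card (Sylow 7 G) % 7 = 1 := card_sylow_modEq_one 7 G
    have hne1 : Nat.card (Sylow 7 G) ≠ 1 := by
      intro h1
      have htop : normalizer ((P : Subgroup G) : Set G) = ⊤ :=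
        index_eq_one.1 (show (normalizer (P : Set G)).index = 1 by rw [← P.card_eq_index_normalizer, h1])
      have hPn : (P : Subgroup G).Normal := normalizer_eq_top_iff.1 htop
      have : ((P : Subgroup G).subgroupOf M).Normal := hPn.subgroupOf M
      rcases hs.eq_bot_or_eq_top_of_normal _ this with h | h
      · have h1 := Nat.card_congr (subgroupOfEquivOfLe (hPM P)).toEquiv
        rw [h, card_bot, hP7 P] at h1; omega
      · have h1 := Nat.card_congr (subgroupOfEquivOfLe (hPM P)).toEquiv
        rw [h, card_top, hM, hP7 P] at h1; omega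
    have hmem : Nat.card (Sylow 7 G) ∈ Nat.divisors 48 := Nat.mem_divisors.2 ⟨hdvd, by norm_num⟩
    have key : ∀ d ∈ Nat.divisors 48, d % 7 = 1 → d = 1 ∨ d = 8 := by decide
    exact (key _ hmem hmod).resolve_left hne1
  -- `t` normalises every Sylow 7-subgroup
  have hfix : ∀ P : Sylow 7 G, t ∈ normalizer ((P : Subgroup G) : Set G) := by
    intro P
    set H := normalizer ((P : Subgroup G) : Set G) with hH
    have hH42 : Nat.card H = 42 := by
      have := H.card_mul_index
      rw [hidx P, hG] at this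
      omega
    set C := centralizer ({t} : Set G) with hC
    have hC48 : Nat.card C = 48 := D.toHyp.card_C
    -- `P` is transitive on the cosets of `C`
    have htrans : ∀ g : G, ∃ p ∈ (P : Subgroup G), p⁻¹ * g ∈ C := by
      intro g
      let f : ↥(P : Subgroup G) → G ⧸ C := fun p => ((p : G) : G ⧸ C)
      have hf : Function.Injective f := by
        intro p q h
        have hm : (p : G)⁻¹ * q ∈ C := QuotientGroup.eq.1 h
        have hd1 : orderOf (p⁻¹ * q) ∣ 7 := by
          have := orderOf_dvd_natCard (p⁻¹ * q)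
          rwa [hP7 P] at this
        have hd2 : orderOf ((p : G)⁻¹ * q) ∣ 48 := hC48 ▸ C.orderOf_dvd_natCard hm
        rw [show (p : G)⁻¹ * q = ((p⁻¹ * q : ↥(P : Subgroup G)) : G) from rfl, orderOf_coe] at hd2
        have h1 := Nat.eq_one_of_dvd_coprimes (by norm_num : Nat.Coprime 7 48) hd1 hd2
        exact inv_mul_eq_one.1 (orderOf_eq_one_iff.1 h1)
      have hcq : Nat.card (P : Subgroup G) = Nat.card (G ⧸ C) := by
        have := C.card_mul_index
        rw [hC48, hG, C.index_eq_card] at this
        rw [hP7 P]; omega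
      obtain ⟨p, hp⟩ := ((Nat.bijective_iff_injective_and_card f).2 ⟨hf, hcq⟩).2 (g : G ⧸ C)
      exact ⟨p, p.2, QuotientGroup.eq.1 hp⟩
    let Q : Subgroup G := H ⊓ C
    have hQ6 : Nat.card Q = 6 := by
      have hle : Nat.card H ≤ Nat.card (↥(P : Subgroup G) × ↥Q) := by
        refine Nat.card_le_card_of_surjective (fun x => (⟨x.1 * x.2, mul_mem (le_normalizer x.1.2) x.2.2.1⟩ : H)) ?_
        rintro ⟨h, hh⟩
        obtain ⟨p, hp, hpc⟩ := htrans h
        have hq : p⁻¹ * h ∈ H := H.mul_mem (H.inv_mem (le_normalizer hp)) hh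
        exact ⟨(⟨p, hp⟩, ⟨p⁻¹ * h, hq, hpc⟩), Subtype.ext (mul_inv_cancel_left p h)⟩
      rw [Nat.card_prod, hP7 P, hH42] at hle
      have hd : Nat.card Q ∣ Nat.gcd 42 48 :=
        Nat.dvd_gcd (hH42 ▸ card_dvd_of_le inf_le_left) (hC48 ▸ card_dvd_of_le inf_le_right)
      have := Nat.le_of_dvd (by norm_num) hd
      have e : Nat.gcd 42 48 = 6 := by norm_num
      omega
    have : Fact (Nat.Prime 2) := ⟨Nat.prime_two⟩
    have : Fact (Nat.Prime 3) := ⟨Nat.prime_three⟩
    obtain ⟨u, hu⟩ := exists_prime_orderOf_dvd_card' (G := Q) 2 (by rw [hQ6]; norm_num)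
    obtain ⟨w, hw⟩ := exists_prime_orderOf_dvd_card' (G := Q) 3 (by rw [hQ6]; norm_num)
    -- `Q` is abelian
    -- `P` is self-centralizing in `M`
    have hHM : Nat.card ↥(H ⊓ M) = 21 := by
      have hnle : ¬ H ≤ M := fun h => by
        have h1 := card_dvd_of_le h
        rw [hH42, hM] at h1
        have h2 : H.index = 8 := hidx P
        have h3 := relIndex_mul_index h
        rw [hM2, h2] at h3
        have h4 : H.relIndex M = 4 := by omega
        have h5 : (normalizer (((P.subtype (hPM P)) : Subgroup M) : Set M)).index = 4 := by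
          rw [Sylow.coe_subtype, ← h4]
          show _ = (H.subgroupOf M).index
          congr 1
          rw [hH]
          exact (Subgroup.subgroupOf_normalizer_eq (hPM P)).symm
        have h6 : Nat.card (Sylow 7 M) = 4 := by
          rw [(P.subtype (hPM P)).card_eq_index_normalizer]; exact h5
        have := card_sylow_modEq_one 7 M
        rw [h6] at this
        exact absurd this (by decide)
      have h1 : (M.subgroupOf H).index = 2 := by
        obtain ⟨a, ha, haM⟩ := SetLike.not_le_iff_exists.1 hnle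
        rw [index_eq_two_iff]
        refine ⟨⟨a, ha⟩, fun b => ?_⟩
        simp only [mem_subgroupOf]
        rw [Subgroup.coe_mul, mul_mem_iff_of_index_two hM2]
        simp only [haM, iff_false]
        exact xor_not_left.2 Iff.rfl
      have h2 := (M.subgroupOf H).card_mul_index
      rw [h1, hH42] at h2
      have e : Nat.card ↥(H ⊓ M) = Nat.card (M.subgroupOf H) :=
        Nat.card_congr
          { toFun := fun x => ⟨⟨x.1, x.2.1⟩, mem_subgroupOf.2 x.2.2⟩
            invFun := fun x => ⟨x.1.1, x.1.2, mem_subgroupOf.1 x.2⟩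
            left_inv := fun _ => rfl
            right_inv := fun _ => rfl }
      omega
    have hQc : ∀ a b : Q, a * b = b * a := by
      intro a b
      rw [← commutatorElement_eq_one_iff_mul_comm]
      by_contra hne
      obtain ⟨c, hcdef⟩ : ∃ c : G, c = (a : G) * b * ((b : G) * a)⁻¹ := ⟨_, rfl⟩
      have hca : ((⁅a, b⁆ : Q) : G) = c := by rw [hcdef]; simp [commutatorElement_def, mul_assoc]
      have hcQ : c ∈ Q := hca ▸ (⁅a, b⁆ : Q).2
      have hc1 : c ≠ 1 := fun h => hne (Subtype.ext (hca.trans h))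
      have hcM : c ∈ M := by
        rw [hcdef]
        simp only [mul_mem_iff_of_index_two hM2, inv_mem_iff]
        tauto
      obtain ⟨p, hp⟩ := (isCyclic_of_prime_card (hP7 P) : IsCyclic ↥(P : Subgroup G)).exists_generator
      have hconj : ∀ x : G, x ∈ H → ∃ k : ℤ, x * (p : G) * x⁻¹ = (p : G) ^ k := by
        intro x hx
        obtain ⟨k, hk⟩ := mem_zpowers_iff.1 (hp ⟨x * p * x⁻¹, (mem_normalizer_iff.1 hx p).1 p.2⟩)
        exact ⟨k, (congrArg Subtype.val hk).symm⟩
      have hcp : ∀ q ∈ (P : Subgroup G), c * q * c⁻¹ = q := by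
        intro q hq
        obtain ⟨k, hk⟩ := hconj a a.2.1
        obtain ⟨l, hl⟩ := hconj b b.2.1
        have hka : ∀ n : ℤ, (a : G) * (p : G) ^ n * (a : G)⁻¹ = (p : G) ^ (k * n) := fun n => by
          rw [← conj_zpow, hk, zpow_mul]
        have hlb : ∀ n : ℤ, (b : G) * (p : G) ^ n * (b : G)⁻¹ = (p : G) ^ (l * n) := fun n => by
          rw [← conj_zpow, hl, zpow_mul]
        have hx0 : ((b : G) * a)⁻¹ * q * ((b : G) * a) ∈ (P : Subgroup G) :=
          (mem_normalizer_iff''.1 (mul_mem b.2.1 a.2.1) q).1 hq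
        obtain ⟨i, hi⟩ := mem_zpowers_iff.1 (hp ⟨_, hx0⟩)
        have hi' : (p : G) ^ i = ((b : G) * a)⁻¹ * q * ((b : G) * a) := congrArg Subtype.val hi
        calc c * q * c⁻¹
            = (a : G) * ((b : G) * (((b : G) * a)⁻¹ * q * ((b : G) * a)) * (b : G)⁻¹) * (a : G)⁻¹ := by
              rw [hcdef]; group
          _ = (p : G) ^ (k * (l * i)) := by rw [← hi', hlb, hka]
          _ = (p : G) ^ (l * (k * i)) := by rw [mul_left_comm]
          _ = (b : G) * ((a : G) * (((b : G) * a)⁻¹ * q * ((b : G) * a)) * (a : G)⁻¹) * (b : G)⁻¹ := by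
              rw [← hi', hka, hlb]
          _ = q := by group
      -- `c` has order 3
      have hc3 : orderOf c = 3 := by
        have h1 : orderOf c ∣ 6 := hQ6 ▸ Q.orderOf_dvd_natCard hcQ
        have h2 : orderOf c ∣ 21 := hHM ▸ (H ⊓ M).orderOf_dvd_natCard ⟨hcQ.1, hcM⟩
        have h3 : orderOf c ∣ 3 := Nat.dvd_gcd h1 h2
        exact ((Nat.dvd_prime Nat.prime_three).1 h3).resolve_left fun h => hc1 (orderOf_eq_one_iff.1 h)
      -- then `N_M(P)` centralises `P`
      let PM : Sylow 7 M := P.subtype (hPM P)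
      have hle : normalizer ((PM : Subgroup M) : Set M) ≤ centralizer ((PM : Subgroup M) : Set M) := by
        let K : Subgroup G := (H ⊓ M) ⊓ centralizer ((P : Subgroup G) : Set G)
        have hPK : (P : Subgroup G) ≤ K := fun q hq => ⟨⟨le_normalizer hq, hPM P hq⟩, by
          show q ∈ centralizer ((P : Subgroup G) : Set G)
          rw [mem_centralizer_iff]
          intro r hr
          have : IsMulCommutative ↥(P : Subgroup G) := by
            have := (isCyclic_of_prime_card (hP7 P) : IsCyclic ↥(P : Subgroup G))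
            infer_instance
          exact congrArg Subtype.val (mul_comm' (⟨r, hr⟩ : ↥(P : Subgroup G)) ⟨q, hq⟩)⟩
        have hcK : c ∈ K := ⟨⟨hcQ.1, hcM⟩, by
          show c ∈ centralizer ((P : Subgroup G) : Set G)
          rw [mem_centralizer_iff]
          intro r hr
          exact (mul_inv_eq_iff_eq_mul.1 (hcp r hr)).symm⟩
        have h7 : 7 ∣ Nat.card K := hP7 P ▸ card_dvd_of_le hPK
        have h3 : 3 ∣ Nat.card K := hc3 ▸ K.orderOf_dvd_natCard hcK
        have h21 : 21 ∣ Nat.card K := Nat.Coprime.mul_dvd_of_dvd_of_dvd (by norm_num : Nat.Coprime 3 7) h3 h7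
        have hK : K = H ⊓ M := eq_of_le_of_card_ge inf_le_left (by
          rw [hHM]; exact Nat.le_of_dvd Nat.card_pos h21)
        intro x hx
        have hxH : (x : G) ∈ H := by
          rw [hH, mem_normalizer_iff]
          intro q
          constructor
          · intro hq
            exact mem_subgroupOf.1 ((mem_normalizer_iff.1 hx ⟨q, hPM P hq⟩).1 (mem_subgroupOf.2 hq))
          · intro hq
            have hqM : q ∈ M := by
              have := hPM P hq
              have h' := hMn.conj_mem _ this (x : G)⁻¹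
              rwa [show (x : G)⁻¹ * ((x : G) * q * (x : G)⁻¹) * (x : G)⁻¹⁻¹ = q by group] at h'
            exact mem_subgroupOf.1 ((mem_normalizer_iff.1 hx ⟨q, hqM⟩).2 (mem_subgroupOf.2 hq))
        have hxK : (x : G) ∈ K := by rw [hK]; exact ⟨hxH, x.2⟩
        rw [mem_centralizer_iff]
        intro r hr
        exact Subtype.ext ((mem_centralizer_iff.1 hxK.2) _ (mem_subgroupOf.1 hr))
      have hcompl := MonoidHom.ker_transferSylow_isComplement' PM hle
      have hmul := hcompl.card_mul_card
      rcases hs.eq_bot_or_eq_top_of_normal _ (MonoidHom.normal_ker (MonoidHom.transferSylow PM hle)) with h | h <;>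
        rw [h] at hmul <;> simp only [card_bot, card_top] at hmul <;>
        rw [Sylow.coe_subtype, Nat.card_congr (subgroupOfEquivOfLe (hPM P)).toEquiv, hP7 P, hM] at hmul <;> omega
    -- the involution of `Q` is `t`
    have huw : (u : Q) * w = w * u := hQc u w
    let uC : D.C := ⟨u, u.2.2⟩
    let wC : D.C := ⟨w, w.2.2⟩
    have hu' : orderOf (u : G) = 2 := by rw [orderOf_coe, hu]
    have hw' : orderOf (w : G) = 3 := by rw [orderOf_coe, hw]
    have hwC : orderOf wC = 3 := by rw [← orderOf_coe, ← hw']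
    have huC : orderOf uC = 2 := by rw [← orderOf_coe, ← hu']
    have hp1 : D.pi wC ≠ 1 := fun h => by
      rcases D.toHyp.pi_eq_one h with h' | h'
      · rw [h', orderOf_one] at hwC; omega
      · rw [h', ← orderOf_coe] at hwC
        exact absurd (hwC.symm.trans D.ht) (by omega)
    have hpu : D.pi uC = 1 := by
      refine s4_centralizer_three (D.pi wC) ?_ hp1 (D.pi uC) ?_ ?_
      · rw [← map_mul, ← map_mul, show wC * wC * wC = 1 by
          rw [← pow_three', ← hwC]; exact pow_orderOf_eq_one wC, map_one]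
      · rw [← map_mul, show uC * uC = 1 by rw [← sq, ← huC]; exact pow_orderOf_eq_one uC, map_one]
      · rw [← map_mul, ← map_mul]
        exact congrArg D.pi (Subtype.ext (congrArg Subtype.val huw :))
    rcases D.toHyp.pi_eq_one hpu with h | h
    · rw [h, orderOf_one] at huC; omega
    · have : (u : G) = t := congrArg Subtype.val h
      exact this ▸ u.2.1
  -- so `t` lies in a normal subgroup meeting `M` trivially
  let K : Subgroup G := (normalizer ((P₀ : Subgroup G) : Set G)).normalCore
  have htK : t ∈ K := by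
    intro g
    have h := hfix (g⁻¹ • P₀)
    rw [Sylow.smul_def] at h
    have h' : t ∈ normalizer (((MulAut.conj g⁻¹ • (P₀ : Subgroup G)) : Subgroup G) : Set G) := h
    rw [mem_normalizer_iff] at h' ⊢
    intro q
    have key : ∀ r : G, r ∈ MulAut.conj g⁻¹ • (P₀ : Subgroup G) ↔ g * r * g⁻¹ ∈ (P₀ : Subgroup G) := fun r => by
      rw [Subgroup.mem_pointwise_smul_iff_inv_smul_mem, map_inv, inv_inv]
      rfl
    have := h' (g⁻¹ * q * g)
    rw [key, key] at this
    rw [show g * (g⁻¹ * q * g) * g⁻¹ = q by group] at this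
    rw [this, show g * (t * (g⁻¹ * q * g) * t⁻¹) * g⁻¹ = g * t * g⁻¹ * q * (g * t * g⁻¹)⁻¹ by group]
  have hKM : K ⊓ M = ⊥ := by
    have : (K.subgroupOf M).Normal := (normalCore_normal _).subgroupOf M
    rcases hs.eq_bot_or_eq_top_of_normal _ this with h | h
    · rwa [subgroupOf_eq_bot, disjoint_iff] at h
    · exfalso
      have hMK : M ≤ normalizer ((P₀ : Subgroup G) : Set G) :=
        (subgroupOf_eq_top.1 h).trans (normalCore_le _)
      have h1 := index_antitone hMK
      rw [hidx P₀, hM2] at h1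
      omega
  have htc : t ∈ centralizer (M : Set G) := by
    rw [mem_centralizer_iff]
    intro m hm
    have h1 : ⁅m, t⁆ ∈ K ⊓ M := by
      refine ⟨?_, ?_⟩
      · show ⁅m, t⁆ ∈ K
        rw [commutatorElement_def]
        exact mul_mem ((normalCore_normal _).conj_mem t htK m) (inv_mem htK)
      · rw [commutatorElement_def, mul_assoc, mul_assoc, ← mul_assoc t]
        exact mul_mem hm (hMn.conj_mem _ (inv_mem hm) t)
    rw [hKM, mem_bot] at h1
    exact commutatorElement_eq_one_iff_mul_comm.1 h1
  rw [hc, mem_bot] at htc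
  exact D.toHyp.t_ne htc

/-- the alternating group of degree six extends to the symmetric group -/
theorem case_alt_six (D : Data t z T) (M : Subgroup G) [hMn : M.Normal] (hM2 : M.index = 2) (htM : t ∉ M)
    (φ : M ≃* alternatingGroup (Fin 6)) (hc : centralizer (M : Set G) = ⊥) :
    Nonempty (G ≃* Equiv.Perm (Fin 6)) := by
  classical
  have : IsSimpleGroup (alternatingGroup (Fin 6)) := alternatingGroup.isSimpleGroup (by simp)
  have hs : IsSimpleGroup M := MulEquiv.isSimpleGroup φ
  have hM : Nat.card M = 360 := by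
    rw [Nat.card_congr φ.toEquiv, nat_card_alternatingGroup, Nat.card_fin]; rfl
  obtain ⟨y, hyM, hy, hyt⟩ := D.exists_three M hM2
  have hy' : orderOf (⟨y, hyM⟩ : M) = 3 := by rw [Subgroup.orderOf_mk, hy]
  obtain ⟨H₁, hH₁, hyH₁⟩ := exists_index_six (φ ⟨y, hyM⟩) (by rw [MulEquiv.orderOf_eq, hy'])
  let H : Subgroup M := H₁.comap φ.toMonoidHom
  have hH : H.index = 6 := by rw [index_comap_of_surjective _ φ.surjective, hH₁]
  let c : M ≃* M := MulAut.conjNormal t
  have hcy : c ⟨y, hyM⟩ = ⟨y, hyM⟩ := Subtype.ext (by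
    show (MulAut.conjNormal t ⟨y, hyM⟩ : G) = y
    rw [MulAut.conjNormal_apply]
    show t * y * t⁻¹ = y
    rw [← hyt, mul_inv_cancel_right])
  obtain ⟨g, hg⟩ := conj_of_index_six hM H (H.comap c.symm.toMonoidHom) hH
    (by rw [index_comap_of_surjective _ c.symm.surjective, hH]) hy' hyH₁ (by
      show c.symm ⟨y, hyM⟩ ∈ H
      rw [show c.symm ⟨y, hyM⟩ = ⟨y, hyM⟩ from c.injective (by rw [c.apply_symm_apply, hcy])]
      exact hyH₁)
  let HG : Subgroup G := H.map M.subtype
  let NG := normalizer (HG : Set G)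
  have hmem : (g : G)⁻¹ * t ∈ NG := by
    rw [mem_normalizer_iff]
    have key : ∀ m : M, c m ∈ MulAut.conj g • H ↔ m ∈ H := fun m => by
      rw [← hg]; show c.symm (c m) ∈ H ↔ _; rw [c.symm_apply_apply]
    intro q
    constructor
    · rintro ⟨m, hm, rfl⟩
      have := (key m).2 hm
      rw [Subgroup.mem_pointwise_smul_iff_inv_smul_mem] at this
      refine ⟨_, this, ?_⟩
      show (((MulAut.conj g)⁻¹ • c m : M) : G) = _
      simp [MulAut.smul_def, c, mul_assoc]
    · rintro ⟨m', hm', e⟩
      have hqM : q ∈ M := by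
        have h1 : (g : G)⁻¹ * t * q * ((g : G)⁻¹ * t)⁻¹ ∈ M := e ▸ m'.2
        have h2 := hMn.conj_mem _ h1 ((g : G)⁻¹ * t)⁻¹
        simpa [mul_assoc] using h2
      refine ⟨⟨q, hqM⟩, (key _).1 ?_, rfl⟩
      rw [Subgroup.mem_pointwise_smul_iff_inv_smul_mem]
      have heq : (MulAut.conj g)⁻¹ • c ⟨q, hqM⟩ = m' := by
        refine Subtype.ext (Eq.trans ?_ e.symm)
        simp [MulAut.smul_def, c, mul_assoc]
      rw [heq]
      exact hm'
  have hNM : NG ⊓ M = HG := by
    refine le_antisymm ?_ (le_inf le_normalizer (fun x hx => by obtain ⟨m, -, rfl⟩ := hx; exact m.2))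
    rintro x ⟨hx, hxM⟩
    have hxn : (⟨x, hxM⟩ : M) ∈ normalizer (H : Set M) := by
      rw [mem_normalizer_iff]
      intro m
      have := mem_normalizer_iff.1 hx (m : G)
      simp only [HG, mem_map, coe_subtype, SetLike.coe_eq_coe, exists_eq_right] at this ⊢
      constructor
      · intro hm
        obtain ⟨m', hm', e⟩ := this.1 hm
        rwa [show (⟨x, hxM⟩ : M) * m * (⟨x, hxM⟩ : M)⁻¹ = m' from Subtype.ext e.symm]
      · intro hm
        exact this.2 ⟨_, hm, rfl⟩
    rw [normalizer_eq_self hM H hH] at hxn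
    exact ⟨_, hxn, rfl⟩
  have hnle : ¬ NG ≤ M := fun h => htM (by
    have := h hmem
    rw [Subgroup.mul_mem_cancel_left M (inv_mem g.2)] at this
    exact this)
  have hG : Nat.card G = 720 := by rw [← M.card_mul_index, hM, hM2]
  have hNG : NG.index = 6 := by
    have h1 : (M.subgroupOf NG).index = 2 := by
      obtain ⟨a, ha, haM⟩ := SetLike.not_le_iff_exists.1 hnle
      rw [index_eq_two_iff]
      refine ⟨⟨a, ha⟩, fun b => ?_⟩
      simp only [mem_subgroupOf]
      rw [Subgroup.coe_mul, mul_mem_iff_of_index_two hM2]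
      simp only [haM, iff_false]
      exact xor_not_left.2 Iff.rfl
    have h2 := (M.subgroupOf NG).card_mul_index
    have e : Nat.card ↥(NG ⊓ M) = Nat.card (M.subgroupOf NG) :=
      Nat.card_congr
        { toFun := fun x => ⟨⟨x.1, x.2.1⟩, mem_subgroupOf.2 x.2.2⟩
          invFun := fun x => ⟨x.1.1, x.1.2, mem_subgroupOf.1 x.2⟩
          left_inv := fun _ => rfl
          right_inv := fun _ => rfl }
    have h60 : Nat.card HG = 60 := by
      rw [card_map_of_injective M.subtype_injective]
      have := H.card_mul_index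
      rw [hH, hM] at this
      omega
    rw [h1, ← e, hNM, h60] at h2
    have := NG.card_mul_index
    rw [← h2, hG] at this
    omega
  refine Fg24.InvolD8.equiv_perm_of_index NG hNG (by rw [hG]; rfl) ?_
  rw [eq_bot_iff]
  intro x hx
  rw [← hc, mem_centralizer_iff]
  have hKM : NG.normalCore ⊓ M = ⊥ := by
    have : (NG.normalCore.subgroupOf M).Normal := (normalCore_normal _).subgroupOf M
    rcases hs.eq_bot_or_eq_top_of_normal _ this with h | h
    · rwa [subgroupOf_eq_bot, disjoint_iff] at h
    · exfalso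
      have hMK : M ≤ NG := (subgroupOf_eq_top.1 h).trans (normalCore_le _)
      have h1 := index_antitone hMK
      rw [hNG, hM2] at h1
      omega
  intro m hm
  have h1 : ⁅m, x⁆ ∈ NG.normalCore ⊓ M := by
    refine ⟨?_, ?_⟩
    · show ⁅m, x⁆ ∈ NG.normalCore
      rw [commutatorElement_def]
      exact mul_mem ((normalCore_normal _).conj_mem x hx m) (inv_mem hx)
    · rw [commutatorElement_def, mul_assoc, mul_assoc, ← mul_assoc x]
      exact mul_mem hm (hMn.conj_mem _ (inv_mem hm) x)
  rw [hKM, mem_bot] at h1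
  exact commutatorElement_eq_one_iff_mul_comm.1 h1

end Data

end Cfsg.Agent.SymSixRecog
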