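import Cfsg.Agent.SymSixRecog.Split
import Cfsg.Agent.SymSixRecog.Alt6
import Cfsg.Agent.Fusion.PGroup
import Cfsg.Agent.OrderType.Count

/-!
The normal subgroup of index 2 and the two almost simple cases.
-/

set_option autoImplicit false

namespace Cfsg.Agent.SymSixRecog

open Subgroup
open scoped Pointwise commutatorElement

variable {G : Type*} [Group G] [Finite G] {t z : G} {T : Sylow 2 G}

namespace Data

/-- `C_M(z)` is dihedral of order 8 -/
theorem centralizer_dihedral (D : Data t z T) (M : Subgroup G) (hM2 : M.index = 2) (hzM : z ∈ M) (htM : t ∉ M) :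
    Nonempty (↥(centralizer ({⟨z, hzM⟩} : Set ↥M)) ≃* DihedralGroup 4) := by
  classical
  obtain ⟨pe⟩ := sylow_s4 _ D.toHyp.card_piT_range
  have hin : ∀ x : ↥(centralizer ({⟨z, hzM⟩} : Set ↥M)), ((x : ↥M) : G) ∈ (T : Subgroup G) := fun x =>
    D.mem_T_iff.2 (congrArg Subtype.val (mem_centralizer_singleton_iff.1 x.2))
  let inc : ↥(centralizer ({⟨z, hzM⟩} : Set ↥M)) →* ↥(T : Subgroup G) :=
    MonoidHom.mk' (fun x => ⟨_, hin x⟩) (fun _ _ => rfl)
  let f : ↥(centralizer ({⟨z, hzM⟩} : Set ↥M)) →* D.toHyp.piT.range := D.toHyp.piT.rangeRestrict.comp inc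
  have hf : Function.Injective f := by
    rw [injective_iff_map_eq_one]
    intro x hx
    have h1 : D.pi (D.toHyp.incl (inc x)) = 1 := congrArg Subtype.val hx
    rcases D.toHyp.pi_eq_one h1 with h | h
    · exact Subtype.ext (Subtype.ext (congrArg (fun c : D.C => (c : G)) h :))
    · exfalso
      have h' : ((x : ↥M) : G) = t := congrArg Subtype.val h
      exact htM (h' ▸ (x : ↥M).2)
  have hle : Nat.card D.toHyp.piT.range ≤ Nat.card ↥(centralizer ({⟨z, hzM⟩} : Set ↥M)) := by
    rw [D.toHyp.card_piT_range]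
    have hrel : (M.subgroupOf (T : Subgroup G)).index = 2 := by
      rw [index_eq_two_iff]
      refine ⟨⟨t, D.htT⟩, fun b => ?_⟩
      simp only [mem_subgroupOf]
      rw [Subgroup.coe_mul, mul_mem_iff_of_index_two hM2]
      simp only [htM, iff_false]
      exact xor_not_left.2 Iff.rfl
    have h8 := (M.subgroupOf (T : Subgroup G)).card_mul_index
    rw [hrel, D.toHyp.card_T] at h8
    have hcard : Nat.card (M.subgroupOf (T : Subgroup G)) ≤ Nat.card ↥(centralizer ({⟨z, hzM⟩} : Set ↥M)) := by
      refine Nat.card_le_card_of_injective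
        (fun x => ⟨⟨((x : ↥(T : Subgroup G)) : G), mem_subgroupOf.1 x.2⟩,
          mem_centralizer_singleton_iff.2 (Subtype.ext (D.mem_T_iff.1 (x : ↥(T : Subgroup G)).2))⟩) ?_
      intro a b h
      have h' := congrArg (fun w : ↥(centralizer ({⟨z, hzM⟩} : Set ↥M)) => ((w : ↥M) : G)) h
      exact Subtype.ext (Subtype.ext h')
    omega
  exact ⟨(MulEquiv.ofBijective f (hf.bijective_of_nat_card_le hle)).trans pe⟩

theorem oddCore_sub_eq_bot (D : Data t z T) (M : Subgroup G) [M.Normal] : Cfsg.oddCore ↥M = ⊥ := by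
  have : Fact (Nat.Prime 2) := ⟨Nat.prime_two⟩
  have hn : ((Cfsg.pPrimeCore 2 ↥M).map M.subtype).Normal := ConjAct.normal_of_characteristic_of_normal
  have hc : (Nat.card ↥((Cfsg.pPrimeCore 2 ↥M).map M.subtype)).Coprime 2 := by
    rw [card_map_of_injective M.subtype_injective]
    exact Core.coprime_card_pPrimeCore
  have := Core.le_pPrimeCore hc
  rw [show Cfsg.pPrimeCore 2 G = ⊥ from D.oddCore_eq_bot, le_bot_iff] at this
  exact (map_eq_bot_iff_of_injective _ M.subtype_injective).1 this

/-- some element of order 3 of `M` commutes with `t` -/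
theorem exists_three (D : Data t z T) (M : Subgroup G) (hM2 : M.index = 2) :
    ∃ y : G, y ∈ M ∧ orderOf y = 3 ∧ y * t = t * y := by
  have : Fact (Nat.Prime 3) := ⟨Nat.prime_three⟩
  obtain ⟨y, hy⟩ := exists_prime_orderOf_dvd_card' (G := D.C) 3 (by rw [D.toHyp.card_C]; norm_num)
  have hy' : orderOf (y : G) = 3 := by rw [orderOf_coe, hy]
  refine ⟨y, ?_, hy', mem_centralizer_singleton_iff.1 y.2⟩
  have h2 : (y : G) * y ∈ M := mul_self_mem_of_index_two hM2 _
  have h4 := mul_mem h2 h2
  rwa [show (y : G) * y * ((y : G) * y) = (y : G) by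
    rw [show (y : G) * y * ((y : G) * y) = (y : G) ^ 3 * y by simp [pow_succ, mul_assoc]]
    rw [show (y : G) ^ 3 = 1 from hy' ▸ pow_orderOf_eq_one (y : G), one_mul]] at h4

theorem centralizer_eq_bot (D : Data t z T) (M : Subgroup G) [M.Normal] (hM2 : M.index = 2) (hzM : z ∈ M)
    (hns : ¬ Group.IsSolvable G) : centralizer (M : Set G) = ⊥ := by
  classical
  have : Fact (Nat.Prime 2) := ⟨Nat.prime_two⟩
  by_contra hne
  have hle : centralizer (M : Set G) ≤ (T : Subgroup G) := fun x hx =>
    D.mem_T_iff.2 ((mem_centralizer_iff.1 hx) z hzM).symm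
  let N : Subgroup ↥(T : Subgroup G) := (centralizer (M : Set G)).subgroupOf (T : Subgroup G)
  have : Nontrivial N := by
    rw [nontrivial_iff_ne_bot]
    intro h
    exact hne (eq_bot_iff.2 fun x hx => by
      have : (⟨x, hle hx⟩ : ↥(T : Subgroup G)) ∈ N := mem_subgroupOf.2 hx
      rw [h, mem_bot] at this
      exact mem_bot.2 (congrArg Subtype.val this))
  -- a central element of `T` in the normal subgroup
  obtain ⟨w, hwN, hwc, hw1⟩ : ∃ w : ↥(T : Subgroup G), w ∈ N ∧ w ∈ center ↥(T : Subgroup G) ∧ w ≠ 1 := by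
    have : N.Normal := Subgroup.Normal.subgroupOf inferInstance _
    have hc : ¬ (N ⊓ center ↥(T : Subgroup G) = ⊥) := Fusion.pGroup_inf_center_ne_bot T.2 N
      ((nontrivial_iff_ne_bot N).1 inferInstance)
    rw [eq_bot_iff_forall] at hc
    push Not at hc
    obtain ⟨w, hw, hw1⟩ := hc
    exact ⟨w, hw.1, hw.2, hw1⟩
  have hwM : ∀ m ∈ M, m * (w : G) = (w : G) * m := fun m hm => mem_centralizer_iff.1 (mem_subgroupOf.1 hwN) m hm
  obtain ⟨y, hyM, hy, hyt⟩ := D.exists_three M hM2
  have hyz : y * z ≠ z * y := fun h => by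
    have h1 := orderOf_dvd_natCard (⟨y, D.mem_T_iff.2 h⟩ : ↥(T : Subgroup G))
    rw [D.toHyp.card_T, Subgroup.orderOf_mk, hy] at h1
    norm_num at h1
  rcases D.central_cases w.2 (fun s hs => congrArg Subtype.val (mem_center_iff.1 hwc ⟨s, hs⟩).symm)
    with h | h | h | h
  · exact hw1 (Subtype.ext h)
  · exact hyz (h ▸ hwM y hyM)
  · have hC : M ≤ centralizer ({t} : Set G) := fun m hm => mem_centralizer_singleton_iff.2 (h ▸ hwM m hm)
    have h48 : Nat.card M ≤ 48 := D.toHyp.card_C ▸ card_le_of_le hC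
    have hdvd : 48 ∣ Nat.card G := D.toHyp.card_C ▸ card_subgroup_dvd_card _
    have hG := M.card_mul_index
    rw [hM2] at hG
    have hMd : Nat.card M ∣ 48 := D.toHyp.card_C ▸ card_dvd_of_le hC
    apply hns
    have htop : centralizer ({t} : Set G) = ⊤ := by
      by_contra hC1
      have h96 : Nat.card G = 96 := by
        have hne48 : Nat.card G ≠ 48 := fun h48' => hC1 (eq_top_of_card_eq _ (by rw [D.toHyp.card_C, h48']))
        obtain ⟨c, hc⟩ := hdvd
        have : c ≤ 2 := by omega
        have : 1 ≤ c := by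
          rcases c with _ | c
          · have := Nat.card_pos (α := G); omega
          · omega
        interval_cases c <;> omega
      have hTi := T.not_dvd_index
      have h := (T : Subgroup G).card_mul_index
      rw [D.toHyp.card_T, h96] at h
      exact hTi ⟨3, by omega⟩
    have e : G ≃* Multiplicative (ZMod 2) × Equiv.Perm (Fin 4) :=
      (Subgroup.topEquiv.symm.trans (MulEquiv.subgroupCongr htop.symm)).trans D.e
    have hs4 : Group.IsSolvable (Equiv.Perm (Fin 4)) := OrderType.s4_solvable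
    exact Group.isSolvable_of_isSolvable_injective (f := e.toMonoidHom) e.injective
  · have h1 := hwM y hyM
    rw [h, ← mul_assoc, hyt, mul_assoc, mul_assoc] at h1
    exact hyz (mul_left_cancel h1)

end Data

end Cfsg.Agent.SymSixRecog
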