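import Mathlib
import Cfsg.Prelude.Def_CaseTheorems
import Cfsg.Agent.Core.PCore
import Cfsg.Agent.TwoTransfer.Basic

/-!
Local structure of a group with an involution `t`, central in a Sylow 2-subgroup `T`, whose centralizer is
`C₂ × S₄` and such that the derived subgroup of `T` has centralizer `T`.
-/

set_option autoImplicit false

namespace Cfsg.Agent.SymSixRecog

open Subgroup
open scoped Pointwise commutatorElement

theorem s4_center : ∀ x : Equiv.Perm (Fin 4), (∀ y, x * y = y * x) → x = 1 := by decide +kernel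

theorem s4_double_conj : ∀ v w : Equiv.Perm (Fin 4), v * v = 1 → v ≠ 1 → Equiv.Perm.sign v = 1 → w * w = 1 →
    w ≠ 1 → Equiv.Perm.sign w = 1 → ∃ g, g * v * g⁻¹ = w := by decide +kernel

theorem s4_odd_conj : ∀ v w : Equiv.Perm (Fin 4), v * v = 1 → w * w = 1 → Equiv.Perm.sign v = -1 →
    Equiv.Perm.sign w = -1 → Equiv.Perm.sign (v * w) = 1 → (∃ x, v x = x) → (∃ x, w x = x) →
    ∃ g, g * v * g⁻¹ = w := by decide +kernel

theorem s4_odd_invol : ∀ v : Equiv.Perm (Fin 4), v * v = 1 → Equiv.Perm.sign v = -1 → ∃ x, v x = x := by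
  decide +kernel

theorem s4_pair : ∀ v : Equiv.Perm (Fin 4), v * v = 1 → v ≠ 1 → Equiv.Perm.sign v = 1 →
    ∃ g, v * (g * v * g⁻¹) * (v * (g * v * g⁻¹)) = 1 ∧ v * (g * v * g⁻¹) ≠ 1 ∧
      Equiv.Perm.sign (v * (g * v * g⁻¹)) = 1 := by decide +kernel

theorem s4_centralizer_three : ∀ w : Equiv.Perm (Fin 4), w * w * w = 1 → w ≠ 1 → ∀ u : Equiv.Perm (Fin 4), u * u = 1 →
    u * w = w * u → u = 1 := by decide +kernel

theorem d4_commutator : ∀ a b : DihedralGroup 4,
    a * b * a⁻¹ * b⁻¹ = 1 ∨ a * b * a⁻¹ * b⁻¹ = .r 2 := by decide +kernel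

def d4Fun : DihedralGroup 4 → Equiv.Perm (Fin 4)
  | .r i => (Equiv.swap 0 1 * Equiv.swap 1 2 * Equiv.swap 2 3) ^ i.val
  | .sr i => Equiv.swap 0 2 * (Equiv.swap 0 1 * Equiv.swap 1 2 * Equiv.swap 2 3) ^ i.val

theorem d4Fun_mul : ∀ a b, d4Fun (a * b) = d4Fun a * d4Fun b := by decide +kernel
theorem d4Fun_inj : ∀ a b, d4Fun a = d4Fun b → a = b := by decide +kernel

/-- A Sylow 2-subgroup of `S₄` is dihedral of order 8. -/
theorem sylow_s4 (P : Subgroup (Equiv.Perm (Fin 4))) (hP : Nat.card P = 8) :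
    Nonempty (P ≃* DihedralGroup 4) := by
  have : Fact (Nat.Prime 2) := ⟨Nat.prime_two⟩
  have h8 : 2 ^ (Nat.card (Equiv.Perm (Fin 4))).factorization 2 = 8 := by
    rw [Nat.card_perm, Nat.card_fin, show (4 : ℕ).factorial = 2 ^ 3 * 3 by decide,
      Nat.factorization_mul (by norm_num) (by norm_num), Finsupp.add_apply,
      Nat.prime_two.factorization_pow, Finsupp.single_eq_same,
      Nat.factorization_eq_zero_of_not_dvd (by norm_num : ¬ 2 ∣ 3)]
    norm_num
  let f : DihedralGroup 4 →* Equiv.Perm (Fin 4) := MonoidHom.mk' d4Fun d4Fun_mul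
  have hf : Function.Injective f := fun a b h => d4Fun_inj a b h
  let S : Sylow 2 (Equiv.Perm (Fin 4)) := Sylow.ofCard f.range (by
    rw [h8, ← Nat.card_congr (MonoidHom.ofInjective hf).toEquiv, DihedralGroup.nat_card])
  let Q : Sylow 2 (Equiv.Perm (Fin 4)) := Sylow.ofCard P (by rw [h8, hP])
  exact ⟨(Sylow.equiv Q S).trans (MonoidHom.ofInjective hf).symm⟩

variable {G : Type*} [Group G]

/-- The hypotheses on `(t, T)`. -/
structure Hyp (t : G) (T : Sylow 2 G) where
  ht : orderOf t = 2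
  htT : t ∈ (T : Subgroup G)
  hTC : (T : Subgroup G) ≤ centralizer ({t} : Set G)
  e : ↥(centralizer ({t} : Set G)) ≃* (Multiplicative (ZMod 2) × Equiv.Perm (Fin 4))
  h2 : centralizer ((⁅(T : Subgroup G), (T : Subgroup G)⁆ : Subgroup G) : Set G) = (T : Subgroup G)

namespace Hyp

variable {t : G} {T : Sylow 2 G} (H : Hyp t T)

abbrev C (_ : Hyp t T) : Subgroup G := centralizer ({t} : Set G)

def eps : H.C →* Multiplicative (ZMod 2) := (MonoidHom.fst _ _).comp H.e.toMonoidHom
def pi : H.C →* Equiv.Perm (Fin 4) := (MonoidHom.snd _ _).comp H.e.toMonoidHom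

def tC : H.C := ⟨t, mem_centralizer_singleton_iff.2 rfl⟩

include H in
theorem t_ne : t ≠ 1 := fun h => by
  have := H.ht; rw [h, orderOf_one] at this; omega

include H in
theorem t_sq : t * t = 1 := by rw [← sq, ← H.ht, pow_orderOf_eq_one]

theorem ext_C {a b : H.C} (h1 : H.eps a = H.eps b) (h2 : H.pi a = H.pi b) : a = b :=
  H.e.injective (Prod.ext h1 h2)

theorem tC_ne : H.tC ≠ 1 := fun h => H.t_ne (congrArg Subtype.val h)

theorem pi_t : H.pi H.tC = 1 := by
  refine s4_center _ fun y => ?_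
  have h := congrArg H.pi (show H.tC * H.e.symm (1, y) = H.e.symm (1, y) * H.tC from
    Subtype.ext (mem_centralizer_singleton_iff.1 (H.e.symm (1, y)).2).symm)
  rw [map_mul, map_mul] at h
  simpa [pi] using h

theorem eps_t : H.eps H.tC ≠ 1 := fun h => H.tC_ne (H.ext_C (by rw [h, map_one]) (by rw [H.pi_t, map_one]))

theorem eps_cases (x : H.C) : H.eps x = 1 ∨ H.eps x = H.eps H.tC := by
  have key : ∀ a b : Multiplicative (ZMod 2), b ≠ 1 → a = 1 ∨ a = b := by decide
  exact key _ _ H.eps_t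

theorem pi_eq_one {x : H.C} (h : H.pi x = 1) : x = 1 ∨ x = H.tC := by
  rcases H.eps_cases x with h1 | h1
  · exact Or.inl (H.ext_C (by rw [h1, map_one]) (by rw [h, map_one]))
  · exact Or.inr (H.ext_C h1 (by rw [h, H.pi_t]))

include H in
theorem card_C : Nat.card H.C = 48 := by
  rw [Nat.card_congr H.e.toEquiv, Nat.card_prod, Nat.card_perm, Nat.card_fin,
    show Nat.card (Multiplicative (ZMod 2)) = 2 by
      rw [Nat.card_congr Multiplicative.toAdd, Nat.card_zmod]]
  rfl

variable [Finite G]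

include H in
theorem card_T : Nat.card (T : Subgroup G) = 16 := by
  have : Fact (Nat.Prime 2) := ⟨Nat.prime_two⟩
  have h := (T.subtype H.hTC).card_eq_multiplicity
  rw [Sylow.coe_subtype, Nat.card_congr (subgroupOfEquivOfLe H.hTC).toEquiv, H.card_C,
    show (48 : ℕ) = 2 ^ 4 * 3 by norm_num, Nat.factorization_mul (by norm_num) (by norm_num), Finsupp.add_apply,
    Nat.prime_two.factorization_pow, Finsupp.single_eq_same,
    Nat.factorization_eq_zero_of_not_dvd (by norm_num : ¬ 2 ∣ 3)] at h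
  exact h

/-- the inclusion of `T` in the centralizer of `t` -/
def incl : ↥(T : Subgroup G) →* H.C := Subgroup.inclusion H.hTC

omit [Finite G] in
theorem incl_inj : Function.Injective H.incl := Subgroup.inclusion_injective H.hTC

/-- the projection of `T` on `S₄` -/
def piT : ↥(T : Subgroup G) →* Equiv.Perm (Fin 4) := H.pi.comp H.incl

theorem card_piT_range : Nat.card H.piT.range = 8 := by
  classical
  have hk : H.piT.ker = zpowers (⟨t, H.htT⟩ : ↥(T : Subgroup G)) := by
    ext x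
    rw [MonoidHom.mem_ker]
    constructor
    · intro h
      rcases H.pi_eq_one h with h1 | h1
      · rw [show x = 1 from H.incl_inj (h1.trans (map_one _).symm)]
        exact one_mem _
      · rw [show x = ⟨t, H.htT⟩ from H.incl_inj (h1.trans rfl)]
        exact mem_zpowers _
    · intro h
      obtain ⟨k, rfl⟩ := mem_zpowers_iff.1 h
      rw [map_zpow, show H.piT ⟨t, H.htT⟩ = H.pi H.tC from rfl, H.pi_t, one_zpow]
  have h := H.piT.ker.card_mul_index
  rw [Subgroup.index_ker, hk, Nat.card_zpowers, Subgroup.orderOf_mk, H.ht, H.card_T] at h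
  omega

include H in
theorem exists_z : ∃ z : G, ∃ hz : z ∈ centralizer ({t} : Set G), z ∈ (T : Subgroup G) ∧ z ≠ 1 ∧ z * z = 1 ∧
    H.eps ⟨z, hz⟩ = 1 ∧ H.pi ⟨z, hz⟩ * H.pi ⟨z, hz⟩ = 1 ∧ H.pi ⟨z, hz⟩ ≠ 1 ∧
      Equiv.Perm.sign (H.pi ⟨z, hz⟩) = 1 ∧ centralizer ({z} : Set G) = (T : Subgroup G) ∧
        ⁅(T : Subgroup G), (T : Subgroup G)⁆ = zpowers z := by
  classical
  obtain ⟨pe⟩ := sylow_s4 _ H.card_piT_range
  have heps : ∀ a b : ↥(T : Subgroup G), H.eps (H.incl ⁅a, b⁆) = 1 := fun a b => by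
    rw [map_commutatorElement, map_commutatorElement, commutatorElement_def]
    rw [mul_comm (H.eps (H.incl a)) (H.eps (H.incl b))]
    group
  have hpi : ∀ a b : ↥(T : Subgroup G), H.piT ⁅a, b⁆ = 1 ∨ H.piT ⁅a, b⁆ = ((pe.symm (.r 2)) : Equiv.Perm (Fin 4)) := by
    intro a b
    have e1 : (⟨H.piT ⁅a, b⁆, MonoidHom.mem_range.2 ⟨_, rfl⟩⟩ : H.piT.range) =
        ⁅(⟨H.piT a, MonoidHom.mem_range.2 ⟨_, rfl⟩⟩ : H.piT.range),
          (⟨H.piT b, MonoidHom.mem_range.2 ⟨_, rfl⟩⟩ : H.piT.range)⁆ := Subtype.ext (by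
      show H.piT ⁅a, b⁆ = _
      rw [map_commutatorElement]
      rfl)
    rcases d4_commutator (pe ⟨H.piT a, MonoidHom.mem_range.2 ⟨_, rfl⟩⟩)
      (pe ⟨H.piT b, MonoidHom.mem_range.2 ⟨_, rfl⟩⟩) with h | h <;>
      rw [← commutatorElement_def, ← map_commutatorElement, ← e1] at h
    · left
      rw [← map_one pe] at h
      exact congrArg Subtype.val (pe.injective h)
    · right
      have h' := pe.injective (h.trans (pe.apply_symm_apply _).symm)
      exact congrArg Subtype.val h'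
  -- `T` is not abelian
  obtain ⟨a, b, hab⟩ : ∃ a b : ↥(T : Subgroup G), ⁅a, b⁆ ≠ 1 := by
    by_contra hall
    push Not at hall
    have h0 : ⁅(T : Subgroup G), (T : Subgroup G)⁆ = ⊥ := by
      rw [eq_bot_iff, commutator_le]
      intro p hp q hq
      rw [mem_bot]
      exact congrArg Subtype.val (hall ⟨p, hp⟩ ⟨q, hq⟩)
    have h2 := H.h2
    rw [h0, show centralizer (((⊥ : Subgroup G)) : Set G) = ⊤ from by
      rw [eq_top_iff]
      intro x _
      rw [mem_centralizer_iff]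
      intro y hy
      rw [mem_bot.1 hy, one_mul, mul_one]] at h2
    have := card_le_of_le (show H.C ≤ (T : Subgroup G) from h2 ▸ le_top)
    rw [H.card_C, H.card_T] at this
    omega
  set k : ↥(T : Subgroup G) := ⁅a, b⁆
  have hkv : H.piT k = ((pe.symm (.r 2)) : Equiv.Perm (Fin 4)) := (hpi a b).resolve_left fun h => hab (by
    refine H.incl_inj (H.ext_C ?_ ?_)
    · rw [heps, map_one, map_one]
    · rw [map_one, map_one]; exact h)
  have hall : ∀ a' b' : ↥(T : Subgroup G), ⁅a', b'⁆ = 1 ∨ ⁅a', b'⁆ = k := by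
    intro a' b'
    rcases hpi a' b' with h | h
    · exact Or.inl (H.incl_inj (H.ext_C (by rw [heps, map_one, map_one]) (by rw [map_one, map_one]; exact h)))
    · exact Or.inr (H.incl_inj (H.ext_C (by rw [heps, heps]) (h.trans hkv.symm)))
  have hcomm : ⁅(T : Subgroup G), (T : Subgroup G)⁆ ≤ zpowers (k : G) := by
    rw [commutator_le]
    intro p hp q hq
    rcases hall ⟨p, hp⟩ ⟨q, hq⟩ with h | h
    · rw [show ⁅p, q⁆ = 1 from congrArg Subtype.val h]; exact one_mem _
    · rw [show ⁅p, q⁆ = (k : G) from congrArg Subtype.val h]; exact mem_zpowers _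
  have hv2 : H.piT k * H.piT k = 1 := by
    rw [hkv]
    have := congrArg Subtype.val (show pe.symm (.r 2) * pe.symm (.r 2) = 1 by rw [← map_mul]; exact map_one _)
    exact this
  refine ⟨k, H.hTC k.2, k.2, fun h => hab (Subtype.ext h), ?_, heps a b, hv2, ?_, ?_, ?_,
    le_antisymm hcomm (zpowers_le.2 (commutator_mem_commutator a.2 b.2))⟩
  · have : k * k = 1 := H.incl_inj (H.ext_C (by rw [map_mul, map_mul, heps, map_one, map_one, one_mul])
      (by rw [map_mul, map_mul, map_one, map_one]; exact hv2))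
    exact congrArg Subtype.val this
  · intro h
    rcases H.pi_eq_one h with h1 | h1
    · exact hab (Subtype.ext (congrArg (fun x : H.C => (x : G)) h1 :))
    · exact H.eps_t (h1 ▸ heps a b)
  · show Equiv.Perm.sign (H.piT ⁅a, b⁆) = 1
    rw [map_commutatorElement, map_commutatorElement, commutatorElement_def,
      mul_comm (Equiv.Perm.sign (H.piT a)) (Equiv.Perm.sign (H.piT b))]
    group
  · refine le_antisymm ?_ fun x hx => ?_
    · refine le_trans ?_ H.h2.le
      intro x hx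
      rw [mem_centralizer_iff]
      intro y hy
      obtain ⟨i, rfl⟩ := mem_zpowers_iff.1 (hcomm hy)
      exact (((show Commute x (k : G) from mem_centralizer_singleton_iff.1 hx)).zpow_right i).symm
    · rw [mem_centralizer_singleton_iff]
      have h1 : (⟨x, hx⟩ : ↥(T : Subgroup G)) * k * ⟨x, hx⟩⁻¹ = ⁅⟨x, hx⟩ * a * ⟨x, hx⟩⁻¹, ⟨x, hx⟩ * b * ⟨x, hx⟩⁻¹⁆ := by
        show _ * ⁅a, b⁆ * _ = _
        simp only [commutatorElement_def]; group
      rcases hall (⟨x, hx⟩ * a * ⟨x, hx⟩⁻¹) (⟨x, hx⟩ * b * ⟨x, hx⟩⁻¹) with h | h <;> rw [← h1] at h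
      · rw [conj_eq_one_iff] at h; exact absurd h hab
      · exact congrArg Subtype.val (mul_inv_eq_iff_eq_mul.1 h)

end Hyp

end Cfsg.Agent.SymSixRecog
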