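import Cfsg.Agent.SymSixRecog.Local

/-!
The fusion of the central involutions, the solvable case, and the subgroup of index 2.
-/

set_option autoImplicit false

namespace Cfsg.Agent.SymSixRecog

open Subgroup
open scoped Pointwise commutatorElement

variable {G : Type*} [Group G]

theorem orderOf_two {a : G} (h : a * a = 1) (h1 : a ≠ 1) : orderOf a = 2 :=
  orderOf_eq_prime (by rw [sq, h]) h1

theorem map_conj_centralizer (g a : G) :
    (centralizer ({a} : Set G)).map (MulAut.conj g).toMonoidHom = centralizer ({g * a * g⁻¹} : Set G) := by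
  ext x
  rw [Subgroup.mem_map_equiv, MulAut.conj_symm_apply, mem_centralizer_singleton_iff, mem_centralizer_singleton_iff]
  constructor <;> intro h
  · calc x * (g * a * g⁻¹) = g * (g⁻¹ * x * g * a) * g⁻¹ := by group
      _ = g * (a * (g⁻¹ * x * g)) * g⁻¹ := by rw [h]
      _ = g * a * g⁻¹ * x := by group
  · calc g⁻¹ * x * g * a = g⁻¹ * (x * (g * a * g⁻¹)) * g := by group
      _ = g⁻¹ * (g * a * g⁻¹ * x) * g := by rw [h]
      _ = a * (g⁻¹ * x * g) := by group

theorem card_conj_centralizer (g a : G) :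
    Nat.card (centralizer ({g * a * g⁻¹} : Set G)) = Nat.card (centralizer ({a} : Set G)) := by
  rw [← map_conj_centralizer, Subgroup.card_map_of_injective (MulEquiv.injective _)]

/-- The data `(t, T)` together with the involution `z` generating the derived subgroup of `T`. -/
structure Data (t z : G) (T : Sylow 2 G) extends Hyp t T where
  hzC : z ∈ centralizer ({t} : Set G)
  hzT : z ∈ (T : Subgroup G)
  z_ne : z ≠ 1
  z_sq : z * z = 1
  eps_z : (Hyp.eps toHyp) ⟨z, hzC⟩ = 1
  pi_sq : (Hyp.pi toHyp) ⟨z, hzC⟩ * (Hyp.pi toHyp) ⟨z, hzC⟩ = 1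
  pi_ne : (Hyp.pi toHyp) ⟨z, hzC⟩ ≠ 1
  pi_even : Equiv.Perm.sign ((Hyp.pi toHyp) ⟨z, hzC⟩) = 1
  hCz : centralizer ({z} : Set G) = (T : Subgroup G)
  hder : ⁅(T : Subgroup G), (T : Subgroup G)⁆ = zpowers z

theorem exists_data [Finite G] {t : G} {T : Sylow 2 G} (H : Hyp t T) : ∃ z : G, Nonempty (Data t z T) := by
  obtain ⟨z, hz, h1, h2, h3, h4, h5, h6, h7, h8, h9⟩ := H.exists_z
  exact ⟨z, ⟨{ toHyp := H, hzC := hz, hzT := h1, z_ne := h2, z_sq := h3, eps_z := h4, pi_sq := h5, pi_ne := h6,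
               pi_even := h7, hCz := h8, hder := h9 }⟩⟩

namespace Data

variable {t z : G} {T : Sylow 2 G} (D : Data t z T)

def zC : D.C := ⟨z, D.hzC⟩

include D in
theorem tz : t * z = z * t := (mem_centralizer_singleton_iff.1 D.hzC).symm

include D in
theorem mem_T_iff {x : G} : x ∈ (T : Subgroup G) ↔ x * z = z * x := by
  rw [← D.hCz, mem_centralizer_singleton_iff]

include D in
theorem z_ne_t : z ≠ t := fun h => D.toHyp.eps_t (by
  have := D.eps_z
  rwa [show (⟨z, D.hzC⟩ : D.C) = D.toHyp.tC from Subtype.ext h] at this)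

/-- even double transpositions with trivial first component are fused to `z` -/
theorem conj_z {w : D.C} (he : D.eps w = 1) (h2 : D.pi w * D.pi w = 1) (h1 : D.pi w ≠ 1)
    (hs : Equiv.Perm.sign (D.pi w) = 1) : IsConj z (w : G) := by
  obtain ⟨g, hg⟩ := s4_double_conj _ _ D.pi_sq D.pi_ne D.pi_even h2 h1 hs
  obtain ⟨c, hc1, hc2⟩ : ∃ c : D.C, D.eps c = 1 ∧ D.pi c = g :=
    ⟨D.e.symm (1, g), by simp [Hyp.eps], by simp [Hyp.pi]⟩
  have h : c * D.zC * c⁻¹ = w := D.toHyp.ext_C
    (by rw [map_mul, map_mul, map_inv, hc1, he, show D.eps D.zC = 1 from D.eps_z]; group)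
    (by rw [map_mul, map_mul, map_inv, hc2]; exact hg)
  exact isConj_iff.2 ⟨c, congrArg Subtype.val h⟩

variable [Finite G]

include D in
theorem card_centralizer_z : Nat.card (centralizer ({z} : Set G)) = 16 := by rw [D.hCz, D.toHyp.card_T]

include D in
theorem not_conj_tz : ¬ IsConj t z := fun h => by
  obtain ⟨g, hg⟩ := isConj_iff.1 h
  have := card_conj_centralizer g t
  rw [hg, D.card_centralizer_z, show Nat.card (centralizer ({t} : Set G)) = 48 from D.toHyp.card_C] at this
  omega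

omit [Finite G] in
include D in
theorem normalizer_fix {g : G} (hg : (T : Subgroup G).map (MulAut.conj g).toMonoidHom = (T : Subgroup G)) :
    g * z * g⁻¹ = z := by
  have h : g * z * g⁻¹ ∈ zpowers z := by
    rw [← D.hder]
    conv in (occs := *) (T : Subgroup G) => all_goals rw [← hg]
    rw [← map_commutator, D.hder]
    exact ⟨z, mem_zpowers z, rfl⟩
  obtain ⟨k, hk⟩ := mem_zpowers_iff.1 h
  rcases Int.even_or_odd k with ⟨m, rfl⟩ | ⟨m, rfl⟩
  · rw [← two_mul, zpow_mul, zpow_two, D.z_sq, one_zpow] at hk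
    exact absurd (conj_eq_one_iff.1 hk.symm) D.z_ne
  · rw [zpow_add, zpow_mul, zpow_two, D.z_sq, one_zpow, one_mul, zpow_one] at hk
    exact hk.symm

omit [Finite G] in
include D in
theorem tz_mem : t * z ∈ (T : Subgroup G) := mul_mem D.htT D.hzT

omit [Finite G] in
include D in
theorem central_T {w : G} (hw : w = t ∨ w = t * z) {s : G} (hs : s ∈ (T : Subgroup G)) : s * w = w * s := by
  rcases hw with rfl | rfl
  · exact mem_centralizer_singleton_iff.1 (D.hTC hs)
  · rw [← mul_assoc, mem_centralizer_singleton_iff.1 (D.hTC hs), mul_assoc, D.mem_T_iff.1 hs, ← mul_assoc]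

omit [Finite G] in
include D in
theorem le_centralizer_tz : (T : Subgroup G) ≤ centralizer ({t * z} : Set G) :=
  fun _ hs => mem_centralizer_singleton_iff.2 (D.central_T (Or.inr rfl) hs)

include D in
theorem not_conj_tz_z : ¬ IsConj (t * z) z := fun h => by
  obtain ⟨g, hg⟩ := isConj_iff.1 h
  have hle : centralizer ({t * z} : Set G) = (T : Subgroup G) := by
    refine (eq_of_le_of_card_ge D.le_centralizer_tz ?_).symm
    rw [← card_conj_centralizer g (t * z), hg, D.card_centralizer_z, D.toHyp.card_T]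
  have hT : (T : Subgroup G).map (MulAut.conj g).toMonoidHom = (T : Subgroup G) := by
    conv_lhs => rw [← hle]
    rw [map_conj_centralizer, hg, D.hCz]
  have hz : g * z * g⁻¹ = z := D.normalizer_fix hT
  have := hg.trans hz.symm
  have h' : t * z = z := mul_left_cancel (mul_right_cancel this)
  exact D.toHyp.t_ne (mul_eq_right.1 h')

include D in
theorem not_conj_t_tz : ¬ IsConj t (t * z) := fun h => by
  obtain ⟨g, hg⟩ := isConj_iff.1 h
  have : Fact (Nat.Prime 2) := ⟨Nat.prime_two⟩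
  have h1 : (T : Subgroup G).map (MulAut.conj g).toMonoidHom ≤ centralizer ({t * z} : Set G) := by
    rw [← hg, ← map_conj_centralizer]
    exact map_mono D.hTC
  let T' : Sylow 2 G := MulAut.conj g • T
  have hT'' : ((T' : Sylow 2 G) : Subgroup G) = (T : Subgroup G).map (MulAut.conj g).toMonoidHom := rfl
  obtain ⟨⟨c, hc⟩, hcT⟩ := MulAction.exists_smul_eq ↥(centralizer ({t * z} : Set G))
    (T'.subtype (hT'' ▸ h1)) (T.subtype D.le_centralizer_tz)
  rw [Sylow.smul_subtype] at hcT
  have hT : (T : Subgroup G).map (MulAut.conj (c * g)).toMonoidHom = (T : Subgroup G) := by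
    conv_rhs => rw [← congrArg (fun P : Sylow 2 G => (P : Subgroup G)) (Sylow.subtype_injective hcT)]
    show _ = ((T : Subgroup G).map (MulAut.conj g).toMonoidHom).map (MulAut.conj c).toMonoidHom
    rw [Subgroup.map_map, map_mul]
    rfl
  have hz : c * g * z * (c * g)⁻¹ = z := D.normalizer_fix hT
  have hmem : c * g ∈ (T : Subgroup G) := by
    rw [D.mem_T_iff]
    exact mul_inv_eq_iff_eq_mul.1 hz
  have hfix : c * g * t * (c * g)⁻¹ = t := by
    rw [mul_inv_eq_iff_eq_mul]; exact D.central_T (Or.inl rfl) hmem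
  rw [show c * g * t * (c * g)⁻¹ = c * (g * t * g⁻¹) * c⁻¹ by group, hg,
    mem_centralizer_singleton_iff.1 hc, mul_inv_cancel_right] at hfix
  exact D.z_ne (mul_eq_left.1 hfix)

/-- the core of odd order is trivial -/
theorem oddCore_eq_bot (D : Data t z T) : Cfsg.oddCore G = ⊥ := by
  classical
  set K : Subgroup G := Cfsg.oddCore G with hK
  have hKn : K.Normal := Core.pPrimeCore_normal
  have hodd : ¬ 2 ∣ Nat.card K := Core.not_dvd_card_pPrimeCore
  have hinv : ∀ w : G, w * w = 1 → IsConj z w → ∀ k ∈ K, w * k * w⁻¹ = k⁻¹ := by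
    intro w hw2 hzw
    let φ : ↥K →* ↥K :=
      MonoidHom.mk' (fun k => ⟨w * k * w⁻¹, hKn.conj_mem _ k.2 w⟩) (fun a b => Subtype.ext (by simp))
    have hfp : MonoidHom.FixedPointFree φ := by
      intro k hk
      have hk' : (k : G) ∈ centralizer ({w} : Set G) :=
        mem_centralizer_singleton_iff.2 (mul_inv_eq_iff_eq_mul.1 (congrArg Subtype.val hk)).symm
      have hcard : Nat.card (centralizer ({w} : Set G)) = 16 := by
        obtain ⟨g, rfl⟩ := isConj_iff.1 hzw
        rw [card_conj_centralizer, D.card_centralizer_z]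
      have h16 : orderOf (k : G) ∣ 2 ^ 4 := by
        have := Subgroup.orderOf_dvd_natCard _ hk'
        rwa [hcard] at this
      have hdK : orderOf (k : G) ∣ Nat.card K := Subgroup.orderOf_dvd_natCard _ k.2
      have hcop : Nat.Coprime (orderOf (k : G)) (2 ^ 4) :=
        (Nat.Coprime.pow_right 4 (((Nat.prime_two.coprime_iff_not_dvd).2 fun h => hodd (h.trans hdK))).symm)
      exact Subtype.ext (orderOf_eq_one_iff.1 (Nat.eq_one_of_dvd_coprimes hcop dvd_rfl h16))
    have hi : Function.Involutive φ := fun k => Subtype.ext (by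
      show w * (w * k * w⁻¹) * w⁻¹ = k
      rw [show w * (w * (k : G) * w⁻¹) * w⁻¹ = (w * w) * k * (w * w)⁻¹ by group, hw2]
      group)
    intro k hk
    exact congrArg Subtype.val (congrFun (hfp.coe_eq_inv_of_involutive hi) ⟨k, hk⟩)
  obtain ⟨g, h1, h2, h3⟩ := s4_pair _ D.pi_sq D.pi_ne D.pi_even
  obtain ⟨c, hc1, hc2⟩ : ∃ c : D.C, D.eps c = 1 ∧ D.pi c = g :=
    ⟨D.e.symm (1, g), by simp [Hyp.eps], by simp [Hyp.pi]⟩
  have he : D.eps (D.zC * (c * D.zC * c⁻¹)) = 1 := by
    rw [map_mul, map_mul, map_mul, map_inv, hc1, show D.eps D.zC = 1 from D.eps_z]; group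
  have hp : D.pi (D.zC * (c * D.zC * c⁻¹)) = D.pi D.zC * (g * D.pi D.zC * g⁻¹) := by
    rw [map_mul, map_mul, map_mul, map_inv, hc2]
  have hconj1 : IsConj z ((c : G) * z * (c : G)⁻¹) := isConj_iff.2 ⟨c, rfl⟩
  have hconj2 : IsConj z (((D.zC * (c * D.zC * c⁻¹) : D.C)) : G) := D.conj_z he
    (by rw [hp]; exact h1) (by rw [hp]; exact h2) (by rw [hp]; exact h3)
  have hsq : ((c : G) * z * (c : G)⁻¹) * ((c : G) * z * (c : G)⁻¹) = 1 := by
    rw [conj_mul, D.z_sq]; group
  have hsq2 : z * ((c : G) * z * (c : G)⁻¹) * (z * ((c : G) * z * (c : G)⁻¹)) = 1 := by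
    obtain ⟨g', hg'⟩ := isConj_iff.1 hconj2
    have e : g' * z * g'⁻¹ = z * ((c : G) * z * (c : G)⁻¹) := hg'
    rw [← e, conj_mul, D.z_sq]; group
  refine (eq_bot_iff_forall _).2 fun k hk => ?_
  have e1 := hinv z D.z_sq (IsConj.refl z)
  have e2 := hinv _ hsq hconj1 k hk
  have e3 : z * ((c : G) * z * (c : G)⁻¹) * k * (z * ((c : G) * z * (c : G)⁻¹))⁻¹ = k⁻¹ := hinv _ hsq2 hconj2 k hk
  have e4 : k = k⁻¹ := by
    rw [← e3]
    set w := (c : G) * z * (c : G)⁻¹
    calc k = z * k⁻¹ * z⁻¹ := by rw [e1 _ (inv_mem hk), inv_inv]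
      _ = z * (w * k * w⁻¹) * z⁻¹ := by rw [e2]
      _ = _ := by group
  have hk2 : k * k = 1 := by
    nth_rw 2 [e4]
    exact mul_inv_cancel k
  by_contra hk1
  have := Subgroup.orderOf_dvd_natCard _ hk
  rw [orderOf_two hk2 hk1] at this
  exact hodd this

/-- the central elements of `T` -/
theorem central_cases (D : Data t z T) {w : G} (hw : w ∈ (T : Subgroup G))
    (hc : ∀ s ∈ (T : Subgroup G), w * s = s * w) : w = 1 ∨ w = z ∨ w = t ∨ w = t * z := by
  obtain ⟨pe⟩ := sylow_s4 _ D.toHyp.card_piT_range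
  let wC : D.C := D.toHyp.incl ⟨w, hw⟩
  let W : D.toHyp.piT.range := ⟨D.pi wC, MonoidHom.mem_range.2 ⟨⟨w, hw⟩, rfl⟩⟩
  let Z : D.toHyp.piT.range := ⟨D.pi D.zC, MonoidHom.mem_range.2 ⟨⟨_, D.hzT⟩, rfl⟩⟩
  have key : ∀ d : DihedralGroup 4, (∀ e, d * e = e * d) → d = 1 ∨ d = .r 2 := by decide
  have hWc : ∀ e, W * e = e * W := by
    rintro ⟨_, s, rfl⟩
    refine Subtype.ext ?_
    show D.toHyp.piT ⟨w, hw⟩ * D.toHyp.piT s = D.toHyp.piT s * D.toHyp.piT ⟨w, hw⟩
    rw [← map_mul, ← map_mul]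
    exact congrArg D.toHyp.piT (Subtype.ext (hc s s.2))
  have hZc : ∀ e, Z * e = e * Z := by
    rintro ⟨_, s, rfl⟩
    refine Subtype.ext ?_
    show D.pi D.zC * D.toHyp.piT s = D.toHyp.piT s * D.pi D.zC
    rw [show D.pi D.zC = D.toHyp.piT ⟨z, D.hzT⟩ from rfl, ← map_mul, ← map_mul]
    exact congrArg D.toHyp.piT (Subtype.ext (D.mem_T_iff.1 s.2).symm)
  have h1 := key (pe W) (fun e => by rw [← pe.apply_symm_apply e, ← map_mul, ← map_mul, hWc])
  have h2 := key (pe Z) (fun e => by rw [← pe.apply_symm_apply e, ← map_mul, ← map_mul, hZc])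
  have hZ : pe Z = .r 2 := h2.resolve_left fun h => D.pi_ne (congrArg Subtype.val
    ((map_eq_one_iff pe pe.injective).1 h))
  rcases h1 with h | h
  · rcases D.toHyp.pi_eq_one (x := wC) (congrArg Subtype.val ((map_eq_one_iff pe pe.injective).1 h)) with h' | h'
    · exact Or.inl (congrArg Subtype.val h')
    · exact Or.inr (Or.inr (Or.inl (congrArg Subtype.val h')))
  · have hp : D.pi wC = D.pi D.zC := congrArg Subtype.val (pe.injective (h.trans hZ.symm))
    rcases D.toHyp.eps_cases wC with h' | h'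
    · exact Or.inr (Or.inl (congrArg Subtype.val (D.toHyp.ext_C (h'.trans D.eps_z.symm) hp :)))
    · refine Or.inr (Or.inr (Or.inr
        (congrArg Subtype.val (D.toHyp.ext_C (a := wC) (b := D.toHyp.tC * D.zC) ?_ ?_))))
      · rw [map_mul, show D.eps D.zC = 1 from D.eps_z, mul_one, h']
      · rw [map_mul, D.toHyp.pi_t, one_mul, hp]

include D in
theorem not_C_le_T : ¬ centralizer ({t} : Set G) ≤ (T : Subgroup G) := fun h => by
  have := card_le_of_le h
  rw [show Nat.card (centralizer ({t} : Set G)) = 48 from D.toHyp.card_C, D.toHyp.card_T] at this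
  omega

/-- an elementary abelian normal 2-subgroup forces `G = C(t)` -/
theorem of_elementary (D : Data t z T) (N : Subgroup G) [hNn : N.Normal] (hN1 : N ≠ ⊥)
    (hsq : ∀ x ∈ N, x * x = 1) : D.C = ⊤ := by
  classical
  have : Fact (Nat.Prime 2) := ⟨Nat.prime_two⟩
  have hp : IsPGroup 2 N := fun x => ⟨1, Subtype.ext (by simpa [sq] using hsq _ x.2)⟩
  have hNT : N ≤ (T : Subgroup G) := (Core.le_pCore hp).trans (Core.pCore_le_sylow T)
  have hab : ∀ a ∈ N, ∀ b ∈ N, a * b = b * a := fun a ha b hb => by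
    calc a * b = (b * b) * (a * b) * (a * a) := by rw [hsq a ha, hsq b hb, one_mul, mul_one]
      _ = b * ((b * a) * (b * a)) * a := by group
      _ = b * a := by rw [hsq _ (mul_mem hb ha), mul_one]
  by_cases hz : z ∈ N
  · have hlt : (T : Subgroup G).index < Nat.card N := by
      let f : G ⧸ (T : Subgroup G) → N := fun q => ⟨q.out * z * q.out⁻¹, hNn.conj_mem _ hz _⟩
      have hinj : Function.Injective f := by
        intro q r h
        rw [← q.out_eq', ← r.out_eq', QuotientGroup.eq, D.mem_T_iff]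
        have h' : q.out * z * q.out⁻¹ = r.out * z * r.out⁻¹ := congrArg Subtype.val h
        calc q.out⁻¹ * r.out * z = q.out⁻¹ * (r.out * z * r.out⁻¹) * r.out := by group
          _ = q.out⁻¹ * (q.out * z * q.out⁻¹) * r.out := by rw [h']
          _ = z * (q.out⁻¹ * r.out) := by group
      refine lt_of_le_of_ne (Nat.card_le_card_of_injective f hinj) fun heq => ?_
      obtain ⟨q, hq⟩ := ((Nat.bijective_iff_injective_and_card f).2 ⟨hinj, heq⟩).2 1
      exact D.z_ne (conj_eq_one_iff.1 (congrArg Subtype.val hq))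
    have h16 : Nat.card N ∣ 16 := D.toHyp.card_T ▸ card_dvd_of_le hNT
    have hN16 : Nat.card N ≠ 16 := fun h => by
      have hT : N = (T : Subgroup G) := eq_of_le_of_card_ge hNT (by rw [h, D.toHyp.card_T])
      have h2 := D.hder
      rw [← hT, show ⁅N, N⁆ = (⊥ : Subgroup G) by
        rw [eq_bot_iff, commutator_le]
        intro a ha b hb
        rw [mem_bot, commutatorElement_eq_one_iff_mul_comm.2 (hab a ha b hb)]] at h2
      exact D.z_ne (mem_bot.1 (h2 ▸ mem_zpowers z))
    have hN8 : Nat.card N ≤ 8 := by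
      have := Nat.le_of_dvd (by norm_num) h16
      by_contra h
      interval_cases (Nat.card N) <;> omega
    have hG := (T : Subgroup G).card_mul_index
    rw [D.toHyp.card_T] at hG
    have h48 : 48 ∣ Nat.card G := by
      rw [← D.toHyp.card_C]; exact card_subgroup_dvd_card _
    have hodd : ¬ 2 ∣ (T : Subgroup G).index := T.not_dvd_index
    apply eq_top_of_card_eq
    rw [D.toHyp.card_C]
    omega
  · have hcen : ∀ n ∈ N, ∀ s ∈ (T : Subgroup G), n * s = s * n := by
      intro n hn s hs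
      have h1 : ⁅n, s⁆ ∈ zpowers z := D.hder ▸ commutator_mem_commutator (hNT hn) hs
      have h2 : ⁅n, s⁆ ∈ N := by
        rw [commutatorElement_def, mul_assoc, mul_assoc, ← mul_assoc s]
        exact mul_mem hn (hNn.conj_mem _ (inv_mem hn) s)
      obtain ⟨k, hk⟩ := mem_zpowers_iff.1 h1
      rw [← commutatorElement_eq_one_iff_mul_comm]
      rcases Int.even_or_odd k with ⟨m, rfl⟩ | ⟨m, rfl⟩
      · rw [← two_mul, zpow_mul, zpow_two, D.z_sq, one_zpow] at hk
        exact hk.symm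
      · rw [zpow_add, zpow_mul, zpow_two, D.z_sq, one_zpow, one_mul, zpow_one] at hk
        exact absurd (hk ▸ h2) hz
    have hcases : ∀ n ∈ N, n ≠ 1 → n = t ∨ n = t * z := fun n hn hn1 => by
      rcases D.central_cases (hNT hn) (hcen n hn) with h | h | h | h
      · exact absurd h hn1
      · exact absurd (h ▸ hn) hz
      · exact Or.inl h
      · exact Or.inr h
    obtain ⟨n, hn, hn1⟩ : ∃ n ∈ N, n ≠ 1 := by
      rw [Ne, eq_bot_iff_forall] at hN1
      push Not at hN1
      exact hN1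
    have hfix : ∀ g : G, g * n * g⁻¹ = n := by
      intro g
      rcases hcases n hn hn1, hcases _ (hNn.conj_mem _ hn g) (by simpa using hn1) with ⟨h | h, h' | h'⟩
      · rw [h', h]
      · exact absurd (isConj_iff.2 ⟨g, h ▸ h'⟩) D.not_conj_t_tz
      · exact absurd (isConj_iff.2 ⟨g, h ▸ h'⟩ : IsConj (t * z) t).symm D.not_conj_t_tz
      · rw [h', h]
    rcases hcases n hn hn1 with h | h
    · rw [eq_top_iff]
      intro g _
      exact mem_centralizer_singleton_iff.2 (mul_inv_eq_iff_eq_mul.1 (h ▸ hfix g))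
    · exfalso
      refine D.not_C_le_T fun g hg => D.mem_T_iff.2 ?_
      have h1 := mem_centralizer_singleton_iff.1 hg
      have h2 : g * (t * z) = t * z * g := mul_inv_eq_iff_eq_mul.1 (h ▸ hfix g)
      rw [← mul_assoc, h1, mul_assoc, mul_assoc] at h2
      exact mul_left_cancel h2

/-- the solvable case -/
theorem solvable_case [hs : Group.IsSolvable G] (D : Data t z T) : D.C = ⊤ := by
  classical
  have : Fact (Nat.Prime 2) := ⟨Nat.prime_two⟩
  obtain ⟨n, hn⟩ := (Group.isSolvable_def G).1 hs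
  have hex : ∃ k, derivedSeries G k = ⊥ := ⟨n, hn⟩
  obtain ⟨k, hk⟩ : ∃ k, Nat.find hex = k + 1 := by
    refine Nat.exists_eq_succ_of_ne_zero fun h => ?_
    have h0 := Nat.find_spec hex
    rw [h, derivedSeries_zero] at h0
    exact D.z_ne (mem_bot.1 (h0 ▸ mem_top z))
  have hA1 : derivedSeries G k ≠ ⊥ := Nat.find_min hex (by omega)
  have hA2 : ⁅derivedSeries G k, derivedSeries G k⁆ = ⊥ := by
    rw [← derivedSeries_succ, ← hk]; exact Nat.find_spec hex
  have hAn : (derivedSeries G k).Normal := derivedSeries_normal G k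
  have hab : ∀ a ∈ derivedSeries G k, ∀ b ∈ derivedSeries G k, a * b = b * a := fun a ha b hb =>
    commutatorElement_eq_one_iff_mul_comm.1 (mem_bot.1 (hA2 ▸ commutator_mem_commutator ha hb))
  let N : Subgroup G :=
    { carrier := {x | x ∈ derivedSeries G k ∧ x * x = 1}
      one_mem' := ⟨one_mem _, one_mul _⟩
      mul_mem' := fun {a b} ha hb => ⟨mul_mem ha.1 hb.1, by
        rw [mul_assoc, ← mul_assoc b, hab b hb.1 a ha.1, mul_assoc, hb.2, mul_one, ha.2]⟩
      inv_mem' := fun {a} ha => ⟨inv_mem ha.1, by rw [← mul_inv_rev, ha.2, inv_one]⟩ }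
  have : N.Normal := ⟨fun x hx g => ⟨hAn.conj_mem _ hx.1 g, by rw [conj_mul, hx.2]; group⟩⟩
  refine D.of_elementary N ?_ (fun x hx => hx.2)
  intro hN
  have h2 : ¬ 2 ∣ Nat.card (derivedSeries G k) := by
    intro h
    obtain ⟨x, hx⟩ := exists_prime_orderOf_dvd_card' 2 h
    have hxN : (x : G) ∈ N := ⟨x.2, by
      have := pow_orderOf_eq_one x
      rw [hx, sq] at this
      exact congrArg Subtype.val this⟩
    rw [hN, mem_bot] at hxN
    rw [show x = 1 from Subtype.ext hxN, orderOf_one] at hx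
    omega
  have := Core.le_pPrimeCore (p := 2) (N := derivedSeries G k)
    (((Nat.prime_two.coprime_iff_not_dvd).2 h2).symm)
  rw [show Cfsg.pPrimeCore 2 G = ⊥ from D.oddCore_eq_bot, le_bot_iff] at this
  exact hA1 this

/-- a normal subgroup of index 2 omitting `t` -/
theorem exists_index_two (D : Data t z T) : ∃ M : Subgroup G, M.Normal ∧ M.index = 2 ∧ z ∈ M ∧ t ∉ M := by
  classical
  let εT : ↥(T : Subgroup G) →* Multiplicative (ZMod 2) := D.eps.comp D.toHyp.incl
  let D0 : Subgroup G := εT.ker.map (T : Subgroup G).subtype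
  have hD0 : D0.relIndex (T : Subgroup G) = 2 := by
    show (D0.subgroupOf (T : Subgroup G)).index = 2
    rw [subgroupOf, comap_map_eq_self_of_injective (subtype_injective _), Subgroup.index_ker,
      MonoidHom.range_eq_top.2, card_top]
    · rw [Nat.card_congr Multiplicative.toAdd, Nat.card_zmod]
    · intro a
      have key : ∀ a b : Multiplicative (ZMod 2), b ≠ 1 → a = 1 ∨ a = b := by decide
      rcases key a _ D.toHyp.eps_t with h | h
      · exact ⟨1, by rw [map_one, h]⟩
      · exact ⟨⟨t, D.htT⟩, by rw [h]; rfl⟩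
  have htz_ne : t * z ≠ 1 := fun h => D.z_ne_t (by
    calc z = t * t * z := by rw [D.toHyp.t_sq, one_mul]
      _ = t := by rw [mul_assoc, h, mul_one])
  have htz_sq : t * z * (t * z) = 1 := by
    calc t * z * (t * z) = t * (z * t) * z := by group
      _ = t * t * (z * z) := by rw [← D.tz]; group
      _ = 1 := by rw [D.toHyp.t_sq, D.z_sq, one_mul]
  -- the members of `D0` conjugate to `t` or `t z` are transpositions
  have hmem : ∀ x : G, (IsConj x t ∨ IsConj x (t * z)) → x ∈ D0 → ∃ w : D.C,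
      (w : G) = x ∧ D.eps w = 1 ∧ D.pi w * D.pi w = 1 ∧ Equiv.Perm.sign (D.pi w) = -1 := by
    rintro x hx ⟨s, hs, rfl⟩
    have hx2 : (s : G) * s = 1 ∧ (s : G) ≠ 1 := by
      rcases hx with h | h <;> obtain ⟨g, hg⟩ := isConj_iff.1 h.symm <;>
        change _ = (s : G) at hg <;> rw [← hg]
      · exact ⟨by rw [conj_mul, D.toHyp.t_sq]; group, by rw [Ne, conj_eq_one_iff]; exact D.toHyp.t_ne⟩
      · exact ⟨by rw [conj_mul, htz_sq]; group, by rw [Ne, conj_eq_one_iff]; exact htz_ne⟩
    have he : D.eps (D.toHyp.incl s) = 1 := hs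
    have hp2 : D.pi (D.toHyp.incl s) * D.pi (D.toHyp.incl s) = 1 := by
      rw [← map_mul, show D.toHyp.incl s * D.toHyp.incl s = 1 from Subtype.ext hx2.1, map_one]
    refine ⟨D.toHyp.incl s, rfl, he, hp2, ?_⟩
    rcases Int.units_eq_one_or (Equiv.Perm.sign (D.pi (D.toHyp.incl s))) with h | h
    · exfalso
      have hz := D.conj_z he hp2 (fun h1 => hx2.2 (congrArg Subtype.val
        (D.toHyp.ext_C (a := D.toHyp.incl s) (b := 1) (by rw [he, map_one]) (by rw [h1, map_one])))) h
      rcases hx with hx | hx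
      · exact D.not_conj_tz (hx.symm.trans hz.symm)
      · exact D.not_conj_tz_z (hx.symm.trans hz.symm)
    · exact h
  have hodd : ∀ v w : D.C, D.eps v = 1 → D.eps w = 1 → D.pi v * D.pi v = 1 → D.pi w * D.pi w = 1 →
      Equiv.Perm.sign (D.pi v) = -1 → Equiv.Perm.sign (D.pi w) = -1 → IsConj (v : G) (w : G) := by
    intro v w hv hw hv2 hw2 hvs hws
    obtain ⟨g, hg⟩ := s4_odd_conj _ _ hv2 hw2 hvs hws (by rw [map_mul, hvs, hws]; rfl)
      (s4_odd_invol _ hv2 hvs) (s4_odd_invol _ hw2 hws)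
    obtain ⟨c, hc1, hc2⟩ : ∃ c : D.C, D.eps c = 1 ∧ D.pi c = g :=
      ⟨D.e.symm (1, g), by simp [Hyp.eps], by simp [Hyp.pi]⟩
    have h : c * v * c⁻¹ = w := D.toHyp.ext_C (by rw [map_mul, map_mul, map_inv, hc1, hv, hw]; group)
      (by rw [map_mul, map_mul, map_inv, hc2]; exact hg)
    exact isConj_iff.2 ⟨c, congrArg Subtype.val h⟩
  obtain ⟨x, hxT, hx2, hx⟩ : ∃ x, x ∈ (T : Subgroup G) ∧ (x = t ∨ x = t * z) ∧ ∀ g : G, g⁻¹ * x * g ∉ D0 := by
    by_cases hc : ∀ g : G, g⁻¹ * t * g ∉ D0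
    · exact ⟨t, D.htT, Or.inl rfl, hc⟩
    · obtain ⟨g, hg⟩ := not_forall.1 hc
      rw [not_not] at hg
      refine ⟨t * z, D.tz_mem, Or.inr rfl, fun g' hg' => ?_⟩
      have c1 : IsConj (g⁻¹ * t * g) t := isConj_iff.2 ⟨g, by group⟩
      have c2 : IsConj (g'⁻¹ * (t * z) * g') (t * z) := isConj_iff.2 ⟨g', by group⟩
      obtain ⟨v, hv, hv1, hv2, hv3⟩ := hmem _ (Or.inl c1) hg
      obtain ⟨w, hw, hw1, hw2, hw3⟩ := hmem _ (Or.inr c2) hg'
      have := hodd v w hv1 hw1 hv2 hw2 hv3 hw3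
      rw [hv, hw] at this
      exact D.not_conj_t_tz (c1.symm.trans (this.trans c2))
  have hxsq : x * x = 1 := by
    rcases hx2 with rfl | rfl
    · exact D.toHyp.t_sq
    · exact htz_sq
  obtain ⟨M, hMn, hM2, hxM⟩ := TwoTransfer.exists_index_two T D0 hD0 x hxT
    (fun k g hk _ => by
      have : x ^ 2 ^ k = 1 := by
        obtain ⟨j, rfl⟩ := Nat.exists_eq_add_of_le hk
        rw [pow_add, pow_one, pow_mul, sq, hxsq, one_pow]
      rw [this]
      simpa using one_mem D0)
    (fun g _ => hx g)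
  have hzM : z ∈ M := by
    have hle : ⁅(T : Subgroup G), (T : Subgroup G)⁆ ≤ M := by
      rw [commutator_le]
      intro p _ q _
      rw [commutatorElement_def]
      simp only [mul_mem_iff_of_index_two hM2, inv_mem_iff]
      tauto
    rw [D.hder] at hle
    exact hle (mem_zpowers z)
  refine ⟨M, hMn, hM2, hzM, fun ht => hxM ?_⟩
  rcases hx2 with rfl | rfl
  · exact ht
  · exact mul_mem ht hzM

end Data

end Cfsg.Agent.SymSixRecog
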